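import Cfsg.Agent.Lib.Phan.Main
import Cfsg.Agent.Lib.Classical.UnitaryTwo
import Cfsg.Agent.Lib.PSLAut.Kernel
import Cfsg.Agent.Lib.LinGroup.Simple

/-!
Automorphisms of `SU₂(q)` that preserve the diagonal torus.
-/

set_option autoImplicit false

namespace Cfsg.Agent.Lib.Phan

open Matrix Cfsg.Agent.Lib.Forms Cfsg.Agent.Lib.UnitaryMax

variable {F : Type*} [Field F] [Fintype F] {q : ℕ}

/-- `SU₂(q)` is a matrix conjugate of `SL₂(q)`. -/
theorem exists_conj_equiv (hF : Fintype.card F = q ^ 2) {K : Type*} [Field K] [Fintype K]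
    (hK : Fintype.card K = q) :
    ∃ (ι : K →+* F) (P : GL (Fin 2) F) (e : Matrix.SpecialLinearGroup (Fin 2) K ≃* Cfsg.SU 2 F q),
      ∀ M, mat (e M) = (P : Matrix (Fin 2) (Fin 2) F) * M.1.map ι * ((P⁻¹ : GL (Fin 2) F) : Matrix (Fin 2) (Fin 2) F) := by
  classical
  obtain ⟨ι, hι⟩ := Classical.exists_fixedField_equiv hF hK
  have hq := Forms.two_le_of_card_sq hF
  have hadd := Classical.qpow_add hF
  have hqq := Forms.pow_q_pow_q hF
  -- two isotropic vectors `(1, z)`, `(c, c z')` with product `δ`, `δ ^ q = -δ`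
  obtain ⟨z, z', hz, hz', hzz⟩ : ∃ z z' : F, z ^ (q + 1) = -1 ∧ z' ^ (q + 1) = -1 ∧ z ≠ z' := by
    have h := S0754.result hF (-1 : F) (neg_ne_zero.2 one_ne_zero) (by
      rw [← Forms.qPowHom_apply hF, map_neg, map_one])
    rw [Nat.card_eq_fintype_card] at h
    obtain ⟨u, v, huv⟩ := Fintype.exists_pair_of_one_lt_card
      (α := {x : F // x ^ (q + 1) = -1}) (by omega)
    exact ⟨u.1, v.1, u.2, v.2, fun e => huv (Subtype.ext e)⟩
  obtain ⟨δ, hδ0, hδ⟩ : ∃ δ : F, δ ≠ 0 ∧ δ ^ q = -δ := by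
    obtain ⟨t, ht⟩ : ∃ t : F, t ^ q ≠ t := by
      by_contra hne
      push Not at hne
      exact Forms.qPowHom_ne_id hF (RingHom.ext fun x => by simpa using hne x)
    exact ⟨t ^ q - t, sub_ne_zero.2 ht, by rw [Classical.qpow_sub hF, hqq]; ring⟩
  have hz0 : z ≠ 0 := by
    rintro rfl; rw [zero_pow (by omega)] at hz; exact neg_ne_zero.2 one_ne_zero hz.symm
  have hh : 1 + z * z' ^ q ≠ 0 := by
    intro h0
    apply hzz
    rw [pow_succ] at hz'
    have : z' ^ q * (z - z') = 0 := by linear_combination h0 - hz'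
    rcases mul_eq_zero.1 this with e | e
    · rw [e, mul_zero, add_zero] at h0; exact absurd h0 one_ne_zero
    · exact sub_eq_zero.1 e
  -- `c ^ q * (1 + z z'^q) = δ`
  let c : F := (δ / (1 + z * z' ^ q)) ^ q
  have hc : c ^ q = δ / (1 + z * z' ^ q) := hqq _
  let P : Matrix (Fin 2) (Fin 2) F := !![1, c; z, c * z']
  let B : (Fin 2 → F) → (Fin 2 → F) → F := fun u v => δ * (u 0 * v 1 ^ q - u 1 * v 0 ^ q)
  have hPB : ∀ u v, Cfsg.hermForm 2 F q (P *ᵥ u) (P *ᵥ v) = B u v := by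
    intro u v
    have e1 : c ^ q * (1 + z * z' ^ q) = δ := by rw [hc, div_mul_cancel₀ _ hh]
    have e2 : c * (1 + z' * z ^ q) = -δ := by
      have := congrArg (fun x : F => x ^ q) e1
      simp only [mul_pow, hadd, one_pow, hqq, hδ] at this
      linear_combination this
    simp only [Cfsg.hermForm, P, B, Fin.sum_univ_two, Matrix.mulVec, dotProduct, Matrix.cons_val_zero,
      Matrix.cons_val_one, Matrix.head_cons, Matrix.of_apply, Matrix.cons_val', Matrix.empty_val',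
      Matrix.cons_val_fin_one, one_mul, hadd, mul_pow]
    rw [pow_succ] at hz hz'
    linear_combination (u 0 * v 0 ^ q) * hz + (c * c ^ q * (u 1 * v 1 ^ q)) * hz'
      + (u 0 * v 1 ^ q) * e1 + (u 1 * v 0 ^ q) * e2
  have hPdet : P.det ≠ 0 := by
    rw [Matrix.det_fin_two]
    simp only [P, Matrix.of_apply, Matrix.cons_val', Matrix.cons_val_zero, Matrix.cons_val_one,
      Matrix.empty_val', Matrix.cons_val_fin_one]
    rw [show (1 : F) * (c * z') - c * z = c * (z' - z) by ring]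
    exact mul_ne_zero (pow_ne_zero _ (div_ne_zero hδ0 hh)) (sub_ne_zero.2 (Ne.symm hzz))
  have hPu : IsUnit P.det := isUnit_iff_ne_zero.2 hPdet
  have hPP : P * P⁻¹ = 1 := Matrix.mul_nonsing_inv _ hPu
  have hP'P : P⁻¹ * P = 1 := Matrix.nonsing_inv_mul _ hPu
  -- `SL_2(K) → SU_2`
  have hmem : ∀ M : Matrix.SpecialLinearGroup (Fin 2) K, ∀ u v,
      Cfsg.hermForm 2 F q ((P * M.1.map ι * P⁻¹) *ᵥ u) ((P * M.1.map ι * P⁻¹) *ᵥ v)
        = Cfsg.hermForm 2 F q u v := by
    intro M u v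
    conv_rhs => rw [← Matrix.one_mulVec u, ← Matrix.one_mulVec v, ← hPP]
    simp only [← Matrix.mulVec_mulVec, hPB]
    have hd : ι (M.1 0 0) * ι (M.1 1 1) - ι (M.1 0 1) * ι (M.1 1 0) = 1 := by
      rw [← map_mul, ← map_mul, ← map_sub, ← Matrix.det_fin_two, M.2, map_one]
    have hfix : ∀ i j, ι (M.1 i j) ^ q = ι (M.1 i j) := fun i j => (hι _).2 ⟨_, rfl⟩
    generalize P⁻¹ *ᵥ u = x
    generalize P⁻¹ *ᵥ v = y
    simp only [B, Matrix.mulVec, dotProduct, Fin.sum_univ_two, Matrix.map_apply, hadd, mul_pow, hfix]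
    linear_combination (δ * (x 0 * y 1 ^ q - x 1 * y 0 ^ q)) * hd
  have hdet : ∀ M : Matrix.SpecialLinearGroup (Fin 2) K, (P * M.1.map ι * P⁻¹).det = 1 := by
    intro M
    rw [Matrix.det_mul_comm, ← mul_assoc, hP'P, one_mul, ← RingHom.mapMatrix_apply,
      ← RingHom.map_det, M.2, map_one]
  let f : Matrix.SpecialLinearGroup (Fin 2) K →* Cfsg.SU 2 F q :=
    MonoidHom.mk' (fun M => Classical.suMk _ (hdet M) (hmem M)) (fun M N => by
      refine Subtype.ext (Subtype.ext ?_)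
      show P * (M.1 * N.1).map ι * P⁻¹ = P * M.1.map ι * P⁻¹ * (P * N.1.map ι * P⁻¹)
      rw [Matrix.map_mul]
      simp only [mul_assoc]
      rw [← mul_assoc P⁻¹ P, hP'P, one_mul])
  refine ⟨ι, Matrix.GeneralLinearGroup.mk'' P hPu, MulEquiv.ofBijective f ⟨?_, ?_⟩, fun M => ?_⟩
  · intro M N h
    have h' : P * M.1.map ι * P⁻¹ = P * N.1.map ι * P⁻¹ :=
      congrArg (fun x : Cfsg.SU 2 F q => x.1.1) h
    have h'' := congrArg (fun X => P⁻¹ * X * P) h'
    simp only [mul_assoc, hP'P, mul_one] at h''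
    rw [← mul_assoc, ← mul_assoc P⁻¹ P (N.1.map ι), hP'P, one_mul, one_mul] at h''
    exact Subtype.ext (Matrix.map_injective ι.injective h'')
  · intro g
    let M : Matrix (Fin 2) (Fin 2) F := P⁻¹ * g.1.1 * P
    have hMdet : M.det = 1 := by
      rw [Matrix.det_mul_comm, ← mul_assoc, hPP, one_mul]; exact g.1.2
    have hMB : ∀ u v, B (M *ᵥ u) (M *ᵥ v) = B u v := by
      intro u v
      rw [← hPB, ← hPB]
      simp only [M, ← Matrix.mulVec_mulVec]
      simp only [Matrix.mulVec_mulVec (M := P) (N := P⁻¹), hPP, Matrix.one_mulVec]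
      exact g.2 _ _
    have hd : M 0 0 * M 1 1 - M 0 1 * M 1 0 = 1 := by rw [← Matrix.det_fin_two, hMdet]
    have h00 := hMB ![1, 0] ![1, 0]
    have h01 := hMB ![1, 0] ![0, 1]
    have h10 := hMB ![0, 1] ![1, 0]
    have h11 := hMB ![0, 1] ![0, 1]
    simp only [B, Matrix.mulVec, dotProduct, Fin.sum_univ_two, Matrix.cons_val_zero,
      Matrix.cons_val_one, Matrix.cons_val_fin_one, mul_one, mul_zero, zero_add, add_zero, one_pow,
      zero_pow (show q ≠ 0 by omega), sub_zero, zero_sub, mul_neg, mul_eq_mul_left_iff,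
      hδ0, or_false, sub_self, mul_eq_zero, false_or] at h00 h01 h10 h11
    have h01' : M 0 0 * M 1 1 ^ q - M 1 0 * M 0 1 ^ q = 1 :=
      mul_left_cancel₀ hδ0 (by rw [mul_one]; exact h01)
    have h10' : M 0 1 * M 1 0 ^ q - M 1 1 * M 0 0 ^ q = -1 :=
      mul_left_cancel₀ hδ0 (by rw [mul_neg, mul_one]; exact h10)
    have f00 : M 0 0 ^ q = M 0 0 := by
      linear_combination M 0 1 * h00 - M 0 0 * h10' - M 0 0 ^ q * hd
    have f10 : M 1 0 ^ q = M 1 0 := by
      linear_combination M 1 1 * h00 - M 1 0 * h10' - M 1 0 ^ q * hd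
    have f01 : M 0 1 ^ q = M 0 1 := by
      linear_combination M 0 1 * h01' - M 0 0 * h11 - M 0 1 ^ q * hd
    have f11 : M 1 1 ^ q = M 1 1 := by
      linear_combination M 1 1 * h01' - M 1 0 * h11 - M 1 1 ^ q * hd
    have hex : ∀ i j, ∃ y, ι y = M i j := fun i j => (hι _).1 (by
      fin_cases i <;> fin_cases j
      exacts [f00, f01, f10, f11])
    choose m hm using hex
    have hm' : (Matrix.of m).map ι = M := by ext i j; exact hm i j
    have hmdet : (Matrix.of m).det = 1 := by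
      apply ι.injective
      rw [RingHom.map_det, map_one, RingHom.mapMatrix_apply, hm', hMdet]
    refine ⟨⟨Matrix.of m, hmdet⟩, Subtype.ext (Subtype.ext ?_)⟩
    show P * (Matrix.of m).map ι * P⁻¹ = g.1.1
    rw [hm']
    simp only [M, mul_assoc, hPP, mul_one]
    rw [← mul_assoc, hPP, one_mul]
  · rw [Matrix.coe_units_inv]
    rfl

/-- Automorphisms of `SL₂` are semilinear conjugations. -/
theorem exists_aut_SL_two {K : Type*} [Field K] [Fintype K] (hK : 4 ≤ Fintype.card K)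
    (β : MulAut (PSLAut.SLn 2 K)) :
    ∃ (g : GL (Fin 2) K) (σ : K ≃+* K), ∀ s,
      β s = PSLAut.slConjFun g (Matrix.SpecialLinearGroup.map σ.toRingHom s) := by
  obtain ⟨g, σ, ε, hε, hβ⟩ := PSLAut.exists_eq_conj_mul_fieldAut_mul le_rfl (PSLAut.quotAut β)
  obtain ⟨g', hg'⟩ : ∃ g' : GL (Fin 2) K, PSLAut.quotAut β = PSLAut.conj g' * PSLAut.fieldAut σ := by
    rcases hε with rfl | rfl
    · exact ⟨g, by rw [hβ, mul_one]⟩
    · obtain ⟨w, hw⟩ := PSLAut.invTrans_eq_conj_two (F := K)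
      rw [hβ, hw, mul_assoc, PSLAut.fieldAut_mul_conj, ← mul_assoc, ← map_mul]
      exact ⟨_, rfl⟩
  refine ⟨g', σ, ?_⟩
  let γ : PSLAut.SLn 2 K →* PSLAut.SLn 2 K :=
    (PSLAut.slConj g').toMonoidHom.comp (Matrix.SpecialLinearGroup.map σ.toRingHom)
  have hγ : ∀ s, γ s = PSLAut.slConjFun g' (Matrix.SpecialLinearGroup.map σ.toRingHom s) := fun _ => rfl
  clear_value γ
  have hproj : ∀ s, (γ s)⁻¹ * β s ∈ Subgroup.center (PSLAut.SLn 2 K) := fun s => by
    have e := DFunLike.congr_fun hg' (PSLAut.proj s)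
    rw [PSLAut.quotAut_proj, MulAut.mul_apply, PSLAut.fieldAut_proj, PSLAut.conj_proj, ← hγ, PSLAut.proj_apply,
      PSLAut.proj_apply, QuotientGroup.eq] at e
    have e' := Subgroup.inv_mem _ e
    rw [_root_.mul_inv_rev, inv_inv] at e'
    exact e'
  let δ : PSLAut.SLn 2 K →* Subgroup.center (PSLAut.SLn 2 K) :=
    MonoidHom.mk' (fun s => ⟨(γ s)⁻¹ * β s, hproj s⟩) fun s t => Subtype.ext (by
      show (γ (s * t))⁻¹ * β (s * t) = (γ s)⁻¹ * β s * ((γ t)⁻¹ * β t)
      rw [map_mul, map_mul, _root_.mul_inv_rev]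
      calc (γ t)⁻¹ * (γ s)⁻¹ * (β s * β t) = (γ t)⁻¹ * ((γ s)⁻¹ * β s) * β t := by simp only [mul_assoc]
        _ = (γ s)⁻¹ * β s * (γ t)⁻¹ * β t := by rw [Subgroup.mem_center_iff.mp (hproj s) ((γ t)⁻¹)]
        _ = (γ s)⁻¹ * β s * ((γ t)⁻¹ * β t) := by rw [mul_assoc])
  intro s
  have hker : commutator (PSLAut.SLn 2 K) ≤ δ.ker := by
    rw [commutator_def]
    refine Subgroup.commutator_le.mpr fun a _ b _ => ?_
    rw [MonoidHom.mem_ker, map_commutatorElement, commutatorElement_eq_one_iff_mul_comm]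
    exact Subtype.ext (Subgroup.mem_center_iff.mp (δ b).2 (δ a).1)
  rw [LinGroup.commutator_SL_fin_eq_top le_rfl fun _ => by rw [Nat.card_eq_fintype_card]; exact hK] at hker
  have h1 : (γ s)⁻¹ * β s = 1 := congrArg Subtype.val (hker (Subgroup.mem_top s))
  rw [inv_mul_eq_one, hγ] at h1
  exact h1.symm

/-- A field automorphism extends along an embedding of finite fields. -/
theorem exists_extend_aut {K : Type*} [Field K] [Fintype K] (ι : K →+* F) (σ : K ≃+* K) :
    ∃ τ : F ≃+* F, ∀ x, τ (ι x) = ι (σ x) := by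
  classical
  obtain ⟨p, hp⟩ := CharP.exists K
  haveI : Fact p.Prime := ⟨CharP.char_is_prime K p⟩
  haveI : CharP F p := charP_of_injective_ringHom ι.injective p
  letI : Algebra K F := ι.toAlgebra
  letI : Algebra (ZMod p) K := ZMod.algebra K p
  letI : Algebra (ZMod p) F := ZMod.algebra F p
  haveI : IsScalarTower (ZMod p) K F := IsScalarTower.of_algebraMap_eq' (RingHom.ext_zmod _ _)
  let χ : K ≃ₐ[ZMod p] K := AlgEquiv.ofRingEquiv (f := σ) fun x =>
    RingHom.congr_fun (RingHom.ext_zmod ((σ : K →+* K).comp (algebraMap (ZMod p) K)) (algebraMap (ZMod p) K)) x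
  exact ⟨(χ.liftNormal F).toRingEquiv, fun x => χ.liftNormal_commutes F x⟩

/-- Entrywise description of the torus-preserving automorphisms of `SU₂`. -/
theorem exists_aut_two (hF : Fintype.card F = q ^ 2) (hq : 3 < q) (α : MulAut (Cfsg.SU 2 F q))
    (hT : ∀ a (ha : a * a ^ q = 1), ∃ b, ∃ (hb : b * b ^ q = 1), α (dia hF a ha) = dia hF b hb) :
    ∃ (τ : F ≃+* F) (m : F), m * m ^ q = 1 ∧ ∀ x,
      mat (α x) 0 0 = τ (mat x 0 0) ∧ mat (α x) 1 0 = m * τ (mat x 1 0) := by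
  classical
  obtain ⟨K, _, _, hK⟩ : ∃ (K : Type) (_ : Field K) (_ : Fintype K), Fintype.card K = q := by
    obtain ⟨p, j, hp, hj, hpj⟩ := (isPrimePow_nat_iff q).mp
      (isPrimePow_pow_iff two_ne_zero |>.mp (hF ▸ FiniteField.isPrimePow_card F))
    haveI := Fact.mk hp
    letI : Fintype (GaloisField p j) := Fintype.ofFinite _
    exact ⟨GaloisField p j, inferInstance, inferInstance, by
      rw [← Nat.card_eq_fintype_card, GaloisField.card p j (by omega), hpj]⟩
  obtain ⟨ι, P, e, he⟩ := exists_conj_equiv hF hK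
  obtain ⟨g, σ, hg⟩ := exists_aut_SL_two (by omega) ((e.trans α).trans e.symm)
  obtain ⟨τ, hτ⟩ := exists_extend_aut ι σ
  have hfix : ∀ s, α (e s) = e (PSLAut.slConjFun g (Matrix.SpecialLinearGroup.map σ.toRingHom s)) := fun s => by
    rw [← hg s]; simp
  let Pτ : GL (Fin 2) F := Matrix.GeneralLinearGroup.map τ.toRingHom P
  set M : GL (Fin 2) F := P * Matrix.GeneralLinearGroup.map ι g * Pτ⁻¹ with hM
  have key : ∀ x, mat (α x) = (M : Matrix (Fin 2) (Fin 2) F) * (mat x).map τ *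
      ((M⁻¹ : GL (Fin 2) F) : Matrix (Fin 2) (Fin 2) F) := fun x => by
    obtain ⟨s, rfl⟩ := e.surjective x
    have e1 : (s.1.map ι).map τ = (s.1.map σ).map ι := by ext i j; simp [hτ]
    have e2 : ∀ X : GL (Fin 2) F, ((Matrix.GeneralLinearGroup.map τ.toRingHom X : GL (Fin 2) F) :
        Matrix (Fin 2) (Fin 2) F) = (X : Matrix (Fin 2) (Fin 2) F).map τ := fun X => rfl
    have e2' : ∀ X : GL (Fin 2) K, ((Matrix.GeneralLinearGroup.map ι X : GL (Fin 2) F) :
        Matrix (Fin 2) (Fin 2) F) = (X : Matrix (Fin 2) (Fin 2) K).map ι := fun X => rfl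
    have e3 : ∀ X : Matrix (Fin 2) (Fin 2) F, ((P⁻¹ : GL (Fin 2) F) : Matrix (Fin 2) (Fin 2) F).map τ *
        ((P : Matrix (Fin 2) (Fin 2) F).map τ * X) = X := fun X => by
      rw [← Matrix.mul_assoc, ← Matrix.map_mul, ← Units.val_mul, inv_mul_cancel, Units.val_one,
        Matrix.map_one _ (map_zero τ) (map_one τ), one_mul]
    have hMi : M⁻¹ = Pτ * Matrix.GeneralLinearGroup.map ι g⁻¹ * P⁻¹ := by
      rw [hM, _root_.mul_inv_rev, _root_.mul_inv_rev, inv_inv, map_inv, mul_assoc]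
    have hPi : Pτ⁻¹ = Matrix.GeneralLinearGroup.map τ.toRingHom P⁻¹ := (map_inv _ _).symm
    rw [hfix, he, he, PSLAut.coe_slConjFun, PSLAut.coe_map_sl, hMi, hM, hPi]
    simp only [Units.val_mul, Pτ, e2, e2', Matrix.map_mul, e1, Matrix.mul_assoc, e3]
  have hmul : ∀ x, mat (α x) * (M : Matrix (Fin 2) (Fin 2) F) = (M : Matrix (Fin 2) (Fin 2) F) * (mat x).map τ :=
    fun x => by rw [key, Matrix.mul_assoc, ← Units.val_mul, inv_mul_cancel, Units.val_one, mul_one]
  set A := (M : Matrix (Fin 2) (Fin 2) F) with hA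
  have hdet : A 0 0 * A 1 1 - A 0 1 * A 1 0 ≠ 0 := by
    rw [← Matrix.det_fin_two]; exact Matrix.GeneralLinearGroup.det_ne_zero M
  obtain ⟨ω, hω, hω1, hωm, hωq⟩ := exists_omega hF
  have hω' : ω * ω ^ q = 1 := by simpa [normOne] using hω
  obtain ⟨μ, hμ, hαω⟩ := hT ω hω'
  have h := hmul (dia hF ω hω')
  rw [hαω, dia, dia, mat_mk2, mat_mk2] at h
  have h00 : A 0 0 * (τ ω - μ) = 0 := by
    have := congrFun (congrFun h 0) 0
    simp [Matrix.mul_apply, Fin.sum_univ_two, q_zero hF] at this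
    linear_combination -this
  have h01 : A 0 1 * (τ ω ^ q - μ) = 0 := by
    have := congrFun (congrFun h 0) 1
    simp [Matrix.mul_apply, Fin.sum_univ_two, q_zero hF] at this
    linear_combination -this
  have h10 : A 1 0 * (τ ω - μ ^ q) = 0 := by
    have := congrFun (congrFun h 1) 0
    simp [Matrix.mul_apply, Fin.sum_univ_two, q_zero hF] at this
    linear_combination -this
  have h11 : A 1 1 * (τ ω ^ q - μ ^ q) = 0 := by
    have := congrFun (congrFun h 1) 1
    simp [Matrix.mul_apply, Fin.sum_univ_two, q_zero hF] at this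
    linear_combination -this
  have hne : τ ω ^ q ≠ τ ω := fun e => hωq (τ.injective (by rw [map_pow]; exact e))
  have hsh : ∀ x, mat (α x) * A = A * (mat x).map τ := hmul
  have diag : ∀ (ρ : F ≃+* F) (m : F), m ≠ 0 →
      (∀ x, mat (α x) 0 0 = ρ (mat x 0 0) ∧ mat (α x) 1 0 = m * ρ (mat x 1 0)) → m * m ^ q = 1 := by
    intro ρ m _ hx
    have hn := su2_entries hF (α (w2 hF))
    obtain ⟨e0, e1⟩ := hx (w2 hF)
    rw [e0, e1, w2, mat_mk2] at hn
    simpa [q_zero hF, mul_pow, q_neg hF] using hn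
  by_cases hμτ : μ = τ ω
  · subst hμτ
    have a01 : A 0 1 = 0 := (mul_eq_zero.mp h01).resolve_right (sub_ne_zero.mpr hne)
    have a10 : A 1 0 = 0 := (mul_eq_zero.mp h10).resolve_right (sub_ne_zero.mpr (Ne.symm hne))
    rw [a01, zero_mul, sub_zero] at hdet
    have a00 : A 0 0 ≠ 0 := fun e => hdet (by rw [e, zero_mul])
    have a11 : A 1 1 ≠ 0 := fun e => hdet (by rw [e, mul_zero])
    have hx : ∀ x, mat (α x) 0 0 = τ (mat x 0 0) ∧ mat (α x) 1 0 = A 1 1 / A 0 0 * τ (mat x 1 0) := fun x => by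
      have e0 := congrFun (congrFun (hsh x) 0) 0
      have e1 := congrFun (congrFun (hsh x) 1) 0
      simp [Matrix.mul_apply, Fin.sum_univ_two, a01, a10] at e0 e1
      refine ⟨mul_right_cancel₀ a00 (by rw [e0, mul_comm]), ?_⟩
      field_simp
      linear_combination e1
    exact ⟨τ, _, diag τ _ (div_ne_zero a11 a00) hx, hx⟩
  · have a00 : A 0 0 = 0 := (mul_eq_zero.mp h00).resolve_right (sub_ne_zero.mpr (Ne.symm hμτ))
    rw [a00, zero_mul, zero_sub, neg_ne_zero] at hdet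
    have a01 : A 0 1 ≠ 0 := fun e => hdet (by rw [e, zero_mul])
    have a10 : A 1 0 ≠ 0 := fun e => hdet (by rw [e, mul_zero])
    have hμ' : μ ^ q = τ ω := (sub_eq_zero.mp ((mul_eq_zero.mp h10).resolve_left a10)).symm
    have a11 : A 1 1 = 0 := (mul_eq_zero.mp h11).resolve_right (by rw [hμ']; exact sub_ne_zero.mpr hne)
    let τ' : F ≃+* F :=
      (RingEquiv.ofBijective (qPowHom hF) ⟨(qPowHom hF).injective,
        Finite.surjective_of_injective (qPowHom hF).injective⟩).trans τ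
    have hτ' : ∀ z, τ' z = τ z ^ q := fun z => by
      show τ (qPowHom hF z) = _
      rw [qPowHom_apply, map_pow]
    have hx : ∀ x, mat (α x) 0 0 = τ' (mat x 0 0) ∧ mat (α x) 1 0 = -(A 1 0 / A 0 1) * τ' (mat x 1 0) := fun x => by
      have e0 := congrFun (congrFun (hsh x) 0) 1
      have e1 := congrFun (congrFun (hsh x) 1) 1
      have hs := su2_shape (hF := hF) x
      have x11 : mat x 1 1 = mat x 0 0 ^ q := by
        simpa [mat_mk2] using congrFun (congrFun (congrArg mat hs) 1) 1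
      have x01 : mat x 0 1 = -(mat x 1 0 ^ q) := by
        simpa [mat_mk2] using congrFun (congrFun (congrArg mat hs) 0) 1
      simp [Matrix.mul_apply, Fin.sum_univ_two, a00, a11, x11, x01] at e0 e1
      rw [hτ', hτ']
      refine ⟨mul_right_cancel₀ a01 (by rw [e0, mul_comm]), ?_⟩
      field_simp
      linear_combination e1
    exact ⟨τ', _, diag τ' _ (neg_ne_zero.mpr (div_ne_zero a10 a01)) hx, hx⟩

end Cfsg.Agent.Lib.Phan
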