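import Cfsg.Agent.Lib.Phan.Geometry

/-!
The amalgam of two block subgroups of a special unitary group has no proper cover.
-/

set_option autoImplicit false
set_option linter.unusedSectionVars false

namespace Cfsg.Agent.Lib.Phan

open Matrix Cfsg.Agent.Lib.Forms Cfsg.Agent.Lib.UnitaryMax

variable {F : Type*} [Field F] [Fintype F] {q : ℕ}

section Small

variable {k N : ℕ} {hF : Fintype.card F = q ^ 2}

theorem act_blk_line {o : ℕ} (h : o + k ≤ N) (g : Cfsg.SU k F q) {a b : Fin k} {c : F}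
    (hg : act g (bas a) = c • bas b) (i j : Fin N) (hi : (i : ℕ) = o + a) (hj : (j : ℕ) = o + b) :
    act (blk hF o h g) (bas i) = c • bas j := by
  rw [blk_bas o h g a i hi, hg, mulVec_smul, P_bas, show sh o h b = j from Fin.ext hj.symm]

theorem act_blk_two {o : ℕ} (h : o + k ≤ N) (g : Cfsg.SU k F q) {a b b' : Fin k} {c c' : F}
    (hg : act g (bas a) = c • bas b + c' • bas b') (i j j' : Fin N) (hi : (i : ℕ) = o + a)
    (hj : (j : ℕ) = o + b) (hj' : (j' : ℕ) = o + b') :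
    act (blk hF o h g) (bas i) = c • bas j + c' • bas j' := by
  rw [blk_bas o h g a i hi, hg, mulVec_add, mulVec_smul, mulVec_smul, P_bas, P_bas,
    show sh o h b = j from Fin.ext hj.symm, show sh o h b' = j' from Fin.ext hj'.symm]

theorem mk2_bas0 (a b : F) (h : a * a ^ q + b * b ^ q = 1) :
    act (mk2 hF a b h) (bas 0) = a • bas 0 + b • bas 1 := by
  rw [act, mat_mk2, Matrix.mulVec_single_one]
  funext i
  fin_cases i <;> simp

theorem dia_bas0 (a : F) (ha : a * a ^ q = 1) : act (dia hF a ha) (bas 0) = a • bas 0 := by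
  rw [dia, mk2_bas0, zero_smul, add_zero]

theorem dia_bas1 (a : F) (ha : a * a ^ q = 1) : act (dia hF a ha) (bas 1) = a ^ q • bas 1 := by
  rw [dia, act, mat_mk2, Matrix.mulVec_single_one]
  funext i
  fin_cases i <;> simp [q_zero hF]

theorem w2_bas0 : act (w2 hF) (bas 0) = (-1 : F) • bas 1 := by
  rw [w2, mk2_bas0, zero_smul, zero_add]

theorem w2_bas1 : act (w2 hF) (bas 1) = (1 : F) • bas 0 := by
  rw [w2, act, mat_mk2, Matrix.mulVec_single_one]
  funext i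
  fin_cases i <;> simp [q_neg hF, q_zero hF]

theorem dia_one (h : (1 : F) * 1 ^ q = 1) : dia hF 1 h = 1 := by
  refine ext_mat ?_
  rw [dia, mat_mk2, mat_one]
  ext i j
  fin_cases i <;> fin_cases j <;> simp [q_zero hF]

theorem dia_mul (a b : F) (ha : a * a ^ q = 1) (hb : b * b ^ q = 1) :
    dia hF a ha * dia hF b hb = dia hF (a * b) (by rw [mul_pow, mul_mul_mul_comm, ha, hb, one_mul]) := by
  refine ext_mat ?_
  rw [mat_mul, dia, dia, dia, mat_mk2, mat_mk2, mat_mk2]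
  ext i j
  fin_cases i <;> fin_cases j <;> simp [Matrix.mul_apply, Fin.sum_univ_two, q_zero hF, mul_pow]

theorem norm_conj (hF : Fintype.card F = q ^ 2) {a : F} (ha : a * a ^ q = 1) : a ^ q * (a ^ q) ^ q = 1 := by
  rw [pow_q_pow_q hF, mul_comm, ha]

theorem dia_inv (a : F) (ha : a * a ^ q = 1) : (dia hF a ha)⁻¹ = dia hF (a ^ q) (norm_conj hF ha) := by
  refine inv_eq_of_mul_eq_one_right ?_
  rw [dia_mul]
  have := dia_one (hF := hF) (by rw [one_pow, one_mul])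
  convert this using 2

theorem w2_mul_w2 : ∃ h : (-1 : F) * (-1) ^ q = 1, w2 hF * w2 hF = dia hF (-1) h := by
  refine ⟨by rw [q_neg hF, one_pow]; ring, ext_mat ?_⟩
  rw [mat_mul, w2, dia, mat_mk2, mat_mk2]
  ext i j
  fin_cases i <;> fin_cases j <;> simp [Matrix.mul_apply, Fin.sum_univ_two, q_zero hF, q_neg hF]

/-- A stabiliser of a coordinate line is a torus times a smaller block. -/
theorem exists_line_decomp (hF : Fintype.card F = q ^ 2) (h2 : 0 + 2 ≤ N) (hk : 1 + k = N) (g : Cfsg.SU N F q)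
    (i : Fin N) (hi : (i : ℕ) = 0) (a : F) (hg : act g (bas i) = a • bas i) :
    ∃ (ha : a * a ^ q = 1) (t : Cfsg.SU k F q), g = blk hF 0 h2 (dia hF a ha) * blk hF 1 hk.le t := by
  have hq := q_ne_zero hF
  have hn := h_act g (bas i) (bas i)
  rw [hg, herm_smul_left hF, herm_smul_right hF, h_bas_right _ _ hq, bas, Pi.single_eq_same, mul_one] at hn
  refine ⟨hn, ?_⟩
  have hd : act (blk hF 0 h2 (dia hF a hn)) (bas i) = a • bas i :=
    act_blk_line h2 _ (dia_bas0 a hn) i i (by simp [hi]) (by simp [hi])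
  have hmem : (blk hF 0 h2 (dia hF a hn))⁻¹ * g ∈ (blk hF 1 hk.le).range := mem_range_blk hk.le fun j hj => by
    have hji : j = i := Fin.ext (by omega)
    rw [hji, act_mul, hg, ← hd, act_inv]
  obtain ⟨t, ht⟩ := hmem
  exact ⟨t, by rw [ht, mul_inv_cancel_left]⟩

/-- A vector supported on a tail is a translate of the first tail basis vector. -/
theorem exists_tail_move (hF : Fintype.card F = q ^ 2) {o : ℕ} (hk : o + k = N) (h2 : 2 ≤ k) {v : Fin N → F}
    (hv : Cfsg.hermForm N F q v v = 1) (h0 : ∀ i : Fin N, (i : ℕ) < o → v i = 0) (i : Fin N) (hi : (i : ℕ) = o) :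
    ∃ t : Cfsg.SU k F q, act (blk hF o hk.le t) (bas i) = v := by
  have hvP : P F (sh o hk.le) *ᵥ (R F (sh o hk.le) *ᵥ v) = v := by
    funext j
    by_cases hj : (j : ℕ) < o
    · rw [P_mulVec_off _ fun a e => by have := congrArg Fin.val e; simp [sh] at this; omega, h0 j hj]
    · rw [show j = sh o hk.le ⟨j - o, by omega⟩ from Fin.ext (by simp [sh]; omega), ← R_mulVec (sh o hk.le)
        (P F (sh o hk.le) *ᵥ _), RP_vec (sh_inj o hk.le), R_mulVec]
  have hr : Cfsg.hermForm k F q (R F (sh o hk.le) *ᵥ v) (R F (sh o hk.le) *ᵥ v) = 1 := by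
    rw [← h_P_left, hvP, hv]
  obtain ⟨z, hz, hzv⟩ := exists_unit_one hF h2 (a := R F (sh o hk.le) *ᵥ v) (by rw [hr]; exact one_ne_zero)
  obtain ⟨t, ht⟩ := exists_unit_move hF (z := z) (show 0 < k by omega) hr (by rw [hz]; exact one_ne_zero)
    (h_symm hF hzv)
  exact ⟨t, by rw [blk_bas o hk.le t ⟨0, by omega⟩ i (by simp [hi]), ht, hvP]⟩

end Small

/-- The block subgroups on consecutive pairs of coordinates generate. -/
def BlkGen (hF : Fintype.card F = q ^ 2) (N : ℕ) : Prop :=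
  ∀ S : Subgroup (Cfsg.SU N F q), (∀ (i : ℕ) (h : i + 2 ≤ N) (x : Cfsg.SU 2 F q), blk hF i h x ∈ S) →
    ∀ g, g ∈ S

namespace Amalgam

variable {G : Type*} [Group G] {m : ℕ} (hF : Fintype.card F = q ^ 2) (φ : Cfsg.SU 3 F q →* G)
  (ψ : Cfsg.SU (m + 3) F q →* G)

/-- The first block, as a graph. -/
noncomputable def A0 : Cfsg.SU 3 F q →* Cfsg.SU (m + 4) F q × G := (blk hF 0 (by omega)).prod φ

/-- The tail block, as a graph. -/
noncomputable def B0 : Cfsg.SU (m + 3) F q →* Cfsg.SU (m + 4) F q × G := (blk hF 1 (by omega)).prod ψ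

/-- The group generated by the two graphs. -/
noncomputable def E : Subgroup (Cfsg.SU (m + 4) F q × G) := (A0 hF φ).range ⊔ (B0 hF ψ).range

/-- The first block. -/
noncomputable def A : Cfsg.SU 3 F q →* E hF φ ψ :=
  (A0 hF φ).codRestrict (E hF φ ψ) fun x => Subgroup.mem_sup_left ⟨x, rfl⟩

/-- The tail block. -/
noncomputable def B : Cfsg.SU (m + 3) F q →* E hF φ ψ :=
  (B0 hF ψ).codRestrict (E hF φ ψ) fun x => Subgroup.mem_sup_right ⟨x, rfl⟩

/-- The projection. -/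
noncomputable def pr : E hF φ ψ →* Cfsg.SU (m + 4) F q := (MonoidHom.fst _ _).comp (E hF φ ψ).subtype

/-- The action through the projection. -/
noncomputable def pa (g : E hF φ ψ) (v : Fin (m + 4) → F) : Fin (m + 4) → F := act (pr hF φ ψ g) v

/-- The lift of the Weyl element. -/
noncomputable def W : E hF φ ψ := A hF φ ψ (blk hF 0 (by omega) (w2 hF))

/-- The lift of the product of two Weyl elements. -/
noncomputable def w10 : Cfsg.SU 3 F q := blk hF 1 (by omega) (w2 hF) * blk hF 0 (by omega) (w2 hF)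

variable {hF} {φ} {ψ}

theorem pr_A (x : Cfsg.SU 3 F q) : pr hF φ ψ (A hF φ ψ x) = blk hF 0 (by omega) x := rfl

theorem pr_B (t : Cfsg.SU (m + 3) F q) : pr hF φ ψ (B hF φ ψ t) = blk hF 1 (by omega) t := rfl

theorem pa_mul (g g' : E hF φ ψ) (v : Fin (m + 4) → F) : pa hF φ ψ (g * g') v = pa hF φ ψ g (pa hF φ ψ g' v) := by
  rw [pa, pa, pa, map_mul, act_mul]

theorem pa_one (v : Fin (m + 4) → F) : pa hF φ ψ 1 v = v := by rw [pa, map_one, act_one]

theorem pa_smul (g : E hF φ ψ) (c : F) (v : Fin (m + 4) → F) : pa hF φ ψ g (c • v) = c • pa hF φ ψ g v :=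
  act_smul _ _ _

theorem h_pa (g : E hF φ ψ) (u v : Fin (m + 4) → F) :
    Cfsg.hermForm (m + 4) F q (pa hF φ ψ g u) (pa hF φ ψ g v) = Cfsg.hermForm (m + 4) F q u v := h_act _ _ _

theorem pa_add (g : E hF φ ψ) (u v : Fin (m + 4) → F) :
    pa hF φ ψ g (u + v) = pa hF φ ψ g u + pa hF φ ψ g v := by
  rw [pa, pa, pa, act, act, act, mulVec_add]

theorem val2 : ((2 : Fin (m + 4)) : ℕ) = 2 := by
  show 2 % (m + 4) = 2
  exact Nat.mod_eq_of_lt (by omega)

theorem pa_A_bas (x : Cfsg.SU 3 F q) (i : Fin (m + 4)) (a : Fin 3) (hi : (i : ℕ) = a) :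
    pa hF φ ψ (A hF φ ψ x) (bas i) = P F (sh 0 (by omega)) *ᵥ act x (bas a) := by
  rw [pa, pr_A, blk_bas 0 _ x a i (by simp [hi])]

theorem pa_A_off (x : Cfsg.SU 3 F q) (i : Fin (m + 4)) (hi : 3 ≤ (i : ℕ)) :
    pa hF φ ψ (A hF φ ψ x) (bas i) = bas i := by
  rw [pa, pr_A, blk_off 0 _ x i (Or.inr (by simpa using hi))]

theorem pa_B0 (t : Cfsg.SU (m + 3) F q) : pa hF φ ψ (B hF φ ψ t) (bas 0) = bas 0 := by
  rw [pa, pr_B, blk_off 1 _ t 0 (Or.inl (by simp))]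

theorem pa_W0 : pa hF φ ψ (W hF φ ψ) (bas 0) = (-1 : F) • bas 1 := by
  rw [pa, W, pr_A]
  exact act_blk_line _ _ (act_blk_line (a := 0) (b := 1) _ _ w2_bas0 (0 : Fin 3) 1 (by simp) (by simp)) _ _
    (by simp) (by simp)

theorem w0_bas0 : act (blk hF 0 (show 0 + 2 ≤ 3 by omega) (w2 hF)) (bas 0) = (-1 : F) • bas 1 :=
  act_blk_line _ _ w2_bas0 _ _ (by simp) (by simp)

theorem w0_bas2 : act (blk hF 0 (show 0 + 2 ≤ 3 by omega) (w2 hF)) (bas 2) = bas 2 :=
  blk_off 0 _ _ _ (Or.inr (by simp))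

theorem w1_bas0 : act (blk hF 1 (show 1 + 2 ≤ 3 by omega) (w2 hF)) (bas 0) = bas 0 :=
  blk_off 1 _ _ _ (Or.inl (by simp))

theorem w1_bas1 : act (blk hF 1 (show 1 + 2 ≤ 3 by omega) (w2 hF)) (bas 1) = (-1 : F) • bas 2 :=
  act_blk_line _ _ w2_bas0 _ _ (by simp) (by simp)

theorem w10_bas0 : act (w10 hF) (bas 0) = bas 2 := by
  rw [w10, act_mul, w0_bas0, act_smul, w1_bas1, smul_smul]
  simp

theorem pa_w10 : pa hF φ ψ (A hF φ ψ (w10 hF)) (bas 0) = bas 2 := by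
  rw [pa_A_bas _ _ 0 (by simp), w10_bas0, P_bas]
  exact congrArg bas (Fin.ext (by rw [val2]; simp [sh]))

section Hyp

variable (ag : ∀ x : Cfsg.SU 2 F q, φ (blk hF 1 (by omega) x) = ψ (blk hF 0 (by omega) x))
  (cm : ∀ (x : Cfsg.SU 2 F q) (t : Cfsg.SU (m + 2) F q),
    φ (blk hF 0 (by omega) x) * ψ (blk hF 1 (by omega) t) = ψ (blk hF 1 (by omega) t) * φ (blk hF 0 (by omega) x))
  (gM : BlkGen hF (m + 3))

include ag in
theorem A_blk1 (x : Cfsg.SU 2 F q) :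
    A hF φ ψ (blk hF 1 (by omega) x) = B hF φ ψ (blk hF 0 (by omega) x) := by
  refine Subtype.ext (Prod.ext ?_ (ag x))
  show blk hF 0 (by omega) (blk hF 1 (by omega) x) = blk hF 1 (by omega) (blk hF 0 (by omega) x)
  rw [blk_blk, blk_blk]

include cm in
theorem A_comm (x : Cfsg.SU 2 F q) (t : Cfsg.SU (m + 2) F q) :
    A hF φ ψ (blk hF 0 (by omega) x) * B hF φ ψ (blk hF 1 (by omega) t) =
      B hF φ ψ (blk hF 1 (by omega) t) * A hF φ ψ (blk hF 0 (by omega) x) := by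
  refine Subtype.ext (Prod.ext ?_ (cm x t))
  show blk hF 0 (by omega) (blk hF 0 (by omega) x) * blk hF 1 (by omega) (blk hF 1 (by omega) t) =
    blk hF 1 (by omega) (blk hF 1 (by omega) t) * blk hF 0 (by omega) (blk hF 0 (by omega) x)
  rw [blk_blk, blk_blk]
  exact blk_comm _ _ (by omega) _ _

/-- The torus element on the first two coordinates. -/
noncomputable def dA (hF : Fintype.card F = q ^ 2) (φ : Cfsg.SU 3 F q →* G) (ψ : Cfsg.SU (m + 3) F q →* G)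
    (a : F) (ha : a * a ^ q = 1) : E hF φ ψ := A hF φ ψ (blk hF 0 (by omega) (dia hF a ha))

theorem dA_bas0 (a : F) (ha : a * a ^ q = 1) : pa hF φ ψ (dA hF φ ψ a ha) (bas 0) = a • bas 0 := by
  rw [pa, dA, pr_A]
  exact act_blk_line _ _ (act_blk_line (a := 0) (b := 0) _ _ (dia_bas0 a ha) (0 : Fin 3) 0 (by simp) (by simp))
    _ _ (by simp) (by simp)

theorem dA_bas1 (a : F) (ha : a * a ^ q = 1) : pa hF φ ψ (dA hF φ ψ a ha) (bas 1) = a ^ q • bas 1 := by
  rw [pa, dA, pr_A]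
  exact act_blk_line _ _ (act_blk_line (a := 1) (b := 1) _ _ (dia_bas1 a ha) (1 : Fin 3) 1 (by simp) (by simp))
    _ _ (by simp) (by simp)

theorem dA_inv (a : F) (ha : a * a ^ q = 1) :
    (dA hF φ ψ a ha)⁻¹ = dA hF φ ψ (a ^ q) (norm_conj hF ha) := by
  rw [dA, dA, ← map_inv, ← map_inv, dia_inv]

theorem dA_mul (a b : F) (ha : a * a ^ q = 1) (hb : b * b ^ q = 1) :
    dA hF φ ψ a ha * dA hF φ ψ b hb =
      dA hF φ ψ (a * b) (by rw [mul_pow, mul_mul_mul_comm, ha, hb, one_mul]) := by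
  rw [dA, dA, dA, ← map_mul, ← map_mul, dia_mul]

include ag cm gM in
theorem dA_normal (a : F) (ha : a * a ^ q = 1) (t : Cfsg.SU (m + 3) F q) :
    ∃ t', dA hF φ ψ a ha * B hF φ ψ t * (dA hF φ ψ a ha)⁻¹ = B hF φ ψ t' := by
  have key := gM ((B hF φ ψ).range.comap ((MulAut.conj (dA hF φ ψ a ha)).toMonoidHom.comp (B hF φ ψ))) (fun i hi x => by
    show dA hF φ ψ a ha * B hF φ ψ (blk hF i hi x) * (dA hF φ ψ a ha)⁻¹ ∈ (B hF φ ψ).range
    rcases Nat.eq_zero_or_pos i with rfl | hi0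
    · set d := blk hF 0 (show 0 + 2 ≤ 3 by omega) (dia hF a ha) with hd
      have hd0 : act d (bas 0) = a • bas 0 := act_blk_line _ _ (dia_bas0 a ha) _ _ (by simp) (by simp)
      have hmem : d * blk hF 1 (by omega) x * d⁻¹ ∈ (blk hF 1 (show 1 + 2 ≤ 3 by omega)).range := by
        refine mem_range_blk _ fun j hj => ?_
        have hj0 : j = 0 := Fin.ext (by simp; omega)
        have hd' : act d⁻¹ (bas 0) = a ^ q • bas 0 := by
          rw [hd, ← map_inv, dia_inv]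
          exact act_blk_line _ _ (dia_bas0 _ _) _ _ (by simp) (by simp)
        rw [hj0, act_mul, act_mul, hd', act_smul, blk_off 1 _ _ _ (Or.inl (by simp)), act_smul, hd0, smul_smul,
          mul_comm, ha, one_smul]
      obtain ⟨y, hy⟩ := hmem
      refine ⟨blk hF 0 (by omega) y, ?_⟩
      rw [← A_blk1 ag, ← A_blk1 ag, dA, ← map_inv, ← map_mul, ← map_mul, ← hy]
    · obtain ⟨j, rfl⟩ : ∃ j, i = j + 1 := ⟨i - 1, by omega⟩
      refine ⟨blk hF (j + 1) hi x, ?_⟩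
      have e : blk hF (j + 1) hi x = blk hF 1 (show 1 + (m + 2) ≤ m + 3 by omega)
          (blk hF j (show j + 2 ≤ m + 2 by omega) x) := by
        rw [blk_blk]; exact blk_congr (add_comm _ _) _ _ _
      rw [e, dA, A_comm cm, mul_inv_cancel_right]) t
  obtain ⟨t', ht'⟩ := key
  exact ⟨t', ht'.symm⟩

/-- The stabiliser of the base vertex. -/
noncomputable def K : Subgroup (E hF φ ψ) where
  carrier := {g | ∃ (a : F) (ha : a * a ^ q = 1) (t : Cfsg.SU (m + 3) F q), g = dA hF φ ψ a ha * B hF φ ψ t}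
  one_mem' := ⟨1, by rw [one_pow, one_mul], 1, by
    rw [dA, dia_one, map_one, map_one, map_one, one_mul]⟩
  mul_mem' := by
    rintro _ _ ⟨a, ha, t, rfl⟩ ⟨b, hb, t', rfl⟩
    obtain ⟨t'', ht''⟩ := dA_normal ag cm gM (b ^ q) (norm_conj hF hb) t
    rw [← dA_inv b hb, inv_inv] at ht''
    refine ⟨a * b, by rw [mul_pow, mul_mul_mul_comm, ha, hb, one_mul], t'' * t', ?_⟩
    rw [← dA_mul a b ha hb, map_mul, ← ht'']
    group
  inv_mem' := by
    rintro _ ⟨a, ha, t, rfl⟩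
    obtain ⟨t', ht'⟩ := dA_normal ag cm gM a ha t⁻¹
    refine ⟨a ^ q, norm_conj hF ha, t', ?_⟩
    rw [← dA_inv a ha, ← ht', map_inv]
    group

theorem B_mem (t : Cfsg.SU (m + 3) F q) : B hF φ ψ t ∈ K ag cm gM :=
  ⟨1, by rw [one_pow, one_mul], t, by rw [dA, dia_one, map_one, map_one, one_mul]⟩

theorem A1_mem (x : Cfsg.SU 2 F q) : A hF φ ψ (blk hF 1 (by omega) x) ∈ K ag cm gM := by
  rw [A_blk1 ag]; exact B_mem ag cm gM _

theorem A_mem (x : Cfsg.SU 3 F q) (a : F) (hx : act x (bas 0) = a • bas 0) : A hF φ ψ x ∈ K ag cm gM := by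
  obtain ⟨ha, y, rfl⟩ := exists_line_decomp hF (k := 2) (show 0 + 2 ≤ 3 by omega) rfl x 0 (by simp) a hx
  rw [map_mul, A_blk1 ag]
  exact ⟨a, ha, blk hF 0 (by omega) y, rfl⟩

theorem K_bas0 {k : E hF φ ψ} (hk : k ∈ K ag cm gM) :
    ∃ a : F, a * a ^ q = 1 ∧ pa hF φ ψ k (bas 0) = a • bas 0 := by
  obtain ⟨a, ha, t, rfl⟩ := hk
  exact ⟨a, ha, by rw [pa_mul, pa_B0, dA_bas0]⟩

theorem K_pr {k : E hF φ ψ} (hk : k ∈ K ag cm gM) (h1 : pr hF φ ψ k = 1) : k = 1 := by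
  obtain ⟨a, ha, t, rfl⟩ := hk
  have h0 : pa hF φ ψ (dA hF φ ψ a ha * B hF φ ψ t) (bas 0) = bas 0 := by rw [pa, h1, act_one]
  rw [pa_mul, pa_B0, dA_bas0] at h0
  have a1 : a = 1 := by simpa [bas] using congrFun h0 0
  subst a1
  have hd : dA hF φ ψ 1 ha = 1 := by rw [dA, dia_one, map_one, map_one]
  rw [hd, one_mul] at h1 ⊢
  rw [pr_B] at h1
  rw [(injective_iff_map_eq_one _).mp inc_injective t h1, map_one]

/-- The vertices. -/
abbrev Vert : Type _ := E hF φ ψ ⧸ K ag cm gM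

local notation "⟪" g "⟫" => (QuotientGroup.mk g : Vert ag cm gM)

/-- Adjacency. -/
def Adj (X Y : Vert ag cm gM) : Prop := ∃ g : E hF φ ψ, X = ⟪g⟫ ∧ Y = ⟪g * W hF φ ψ⟫

/-- The vectors below a vertex. -/
def Over (X : Vert ag cm gM) (v : Fin (m + 4) → F) : Prop :=
  ∃ g : E hF φ ψ, X = ⟪g⟫ ∧ ∃ c : F, c * c ^ q = 1 ∧ v = c • pa hF φ ψ g (bas 0)

theorem mk_mul_mem (g : E hF φ ψ) {k : E hF φ ψ} (hk : k ∈ K ag cm gM) : ⟪g * k⟫ = ⟪g⟫ := by
  rw [QuotientGroup.eq]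
  simpa [mul_assoc] using (K ag cm gM).inv_mem hk

theorem A_coset (g : E hF φ ψ) {x y : Cfsg.SU 3 F q} (e : act x (bas 0) = act y (bas 0)) :
    ⟪g * A hF φ ψ x⟫ = ⟪g * A hF φ ψ y⟫ := by
  rw [QuotientGroup.eq, _root_.mul_inv_rev, mul_assoc, inv_mul_cancel_left, ← map_inv, ← map_mul]
  refine A_mem ag cm gM _ 1 ?_
  rw [act_mul, ← e, act_inv, one_smul]

theorem over_of_mk (g : E hF φ ψ) {v : Fin (m + 4) → F} (o : Over ag cm gM ⟪g⟫ v) :
    ∃ c : F, c * c ^ q = 1 ∧ v = c • pa hF φ ψ g (bas 0) := by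
  obtain ⟨g', e, c, hc, rfl⟩ := o
  obtain ⟨a, ha, hk⟩ := K_bas0 ag cm gM (QuotientGroup.eq.mp e)
  refine ⟨c * a, by rw [mul_pow, mul_mul_mul_comm, hc, ha, one_mul], ?_⟩
  rw [show g' = g * (g⁻¹ * g') from (mul_inv_cancel_left g g').symm, pa_mul, hk, pa_smul, smul_smul]

theorem h_bas (hF : Fintype.card F = q ^ 2) (i : Fin (m + 4)) : Cfsg.hermForm (m + 4) F q (bas i) (bas i) = (1 : F) := by
  rw [h_bas_right _ _ (q_ne_zero hF), bas, Pi.single_eq_same]

theorem adj_symm {X Y : Vert ag cm gM} (e : Adj ag cm gM X Y) : Adj ag cm gM Y X := by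
  obtain ⟨g, rfl, rfl⟩ := e
  refine ⟨g * W hF φ ψ, rfl, ?_⟩
  rw [mul_assoc, mk_mul_mem]
  obtain ⟨h, hw⟩ := w2_mul_w2 (hF := hF)
  rw [W, ← map_mul, ← map_mul, hw]
  exact ⟨-1, h, 1, by rw [map_one, mul_one]; rfl⟩

theorem over_unit {X : Vert ag cm gM} {v : Fin (m + 4) → F} (o : Over ag cm gM X v) :
    Cfsg.hermForm (m + 4) F q v v = 1 := by
  obtain ⟨g, -, c, hc, rfl⟩ := o
  rw [herm_smul_left hF, herm_smul_right hF, h_pa, h_bas hF, mul_one, hc]

theorem adj_orth {X Y : Vert ag cm gM} {a b : Fin (m + 4) → F} (e : Adj ag cm gM X Y) (oa : Over ag cm gM X a)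
    (ob : Over ag cm gM Y b) : Cfsg.hermForm (m + 4) F q a b = 0 := by
  obtain ⟨g, rfl, rfl⟩ := e
  obtain ⟨c, -, rfl⟩ := over_of_mk ag cm gM g oa
  obtain ⟨c', -, rfl⟩ := over_of_mk ag cm gM _ ob
  rw [pa_mul, pa_W0, herm_smul_left hF, herm_smul_right hF, h_pa, herm_smul_right hF,
    h_bas_right _ _ (q_ne_zero hF)]
  simp [bas]

theorem lift {X : Vert ag cm gM} {a b : Fin (m + 4) → F} (oa : Over ag cm gM X a)
    (hb : Cfsg.hermForm (m + 4) F q b b = 1) (hab : Cfsg.hermForm (m + 4) F q a b = 0) :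
    ∃ Y, Adj ag cm gM X Y ∧ Over ag cm gM Y b := by
  obtain ⟨g, rfl, c, hc, rfl⟩ := oa
  set z := pa hF φ ψ g⁻¹ b with hz
  have hgz : pa hF φ ψ g z = b := by rw [hz, ← pa_mul, mul_inv_cancel, pa_one]
  rw [← hgz, herm_smul_left hF, h_pa] at hab
  rw [← hgz, h_pa] at hb
  have hc0 : c ≠ 0 := fun e => by rw [e, zero_mul] at hc; exact zero_ne_one hc
  have hz0 : z 0 = 0 := by
    rw [← h_bas_right (q := q) z 0 (q_ne_zero hF)]
    exact h_symm hF ((mul_eq_zero.mp hab).resolve_left hc0)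
  obtain ⟨t, ht⟩ := exists_tail_move hF (o := 1) (k := m + 3) (by omega) (by omega) hb
    (fun i hi => by rw [show i = 0 from Fin.ext (by rw [Fin.val_zero]; omega), hz0]) 1 (by simp)
  refine ⟨⟪g * B hF φ ψ t * W hF φ ψ⟫, ⟨g * B hF φ ψ t, (mk_mul_mem ag cm gM g (B_mem ag cm gM t)).symm, rfl⟩,
    _, rfl, -1, by rw [q_neg hF, one_pow]; ring, ?_⟩
  rw [pa_mul, pa_W0, pa_smul, smul_smul, pa_mul, show pa hF φ ψ (B hF φ ψ t) (bas 1) = z from ht, hgz]
  simp

theorem unique {X Y Y' : Vert ag cm gM} {b : Fin (m + 4) → F} (e : Adj ag cm gM X Y) (e' : Adj ag cm gM X Y')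
    (ob : Over ag cm gM Y b) (ob' : Over ag cm gM Y' b) : Y = Y' := by
  obtain ⟨g, rfl, rfl⟩ := e
  obtain ⟨g', hgg, rfl⟩ := e'
  obtain ⟨c, hc, hb⟩ := over_of_mk ag cm gM _ ob
  obtain ⟨c', hc', hb'⟩ := over_of_mk ag cm gM _ ob'
  have hk := QuotientGroup.eq.mp hgg
  set k := g⁻¹ * g' with hkdef
  have hg' : g' = g * k := (mul_inv_cancel_left g g').symm
  have hc0 : c' ≠ 0 := fun e => by rw [e, zero_mul] at hc'; exact zero_ne_one hc'
  have hke : pa hF φ ψ k (bas 1) = (c / c') • bas 1 := by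
    rw [hb', hg'] at hb
    simp only [pa_mul, pa_W0, pa_smul, smul_smul] at hb
    have h1 := congrArg (pa hF φ ψ g⁻¹) hb
    simp only [pa_smul, ← pa_mul, inv_mul_cancel_left, inv_mul_cancel, pa_one] at h1
    have h2 := congrArg (fun v => ((c' * (-1))⁻¹ : F) • v) h1
    simp only [smul_smul] at h2
    rw [inv_mul_cancel₀ (mul_ne_zero hc0 (by simp)), one_smul] at h2
    rw [h2]
    congr 1
    field_simp
  obtain ⟨a, ha, t, hkt⟩ := hk
  rw [hkt, pa_mul] at hke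
  have ht1 := congrArg (pa hF φ ψ (dA hF φ ψ a ha)⁻¹) hke
  rw [← pa_mul, inv_mul_cancel, pa_one, pa_smul, dA_inv, dA_bas1, pow_q_pow_q hF, smul_smul, pa, pr_B,
    blk_bas 1 _ t 0 1 (by simp)] at ht1
  have e1 : (bas 1 : Fin (m + 4) → F) = P F (sh 1 (show 1 + (m + 3) ≤ m + 4 by omega)) *ᵥ bas 0 := by
    rw [P_bas]; exact congrArg bas (Fin.ext (by simp [sh]))
  rw [e1, ← mulVec_smul] at ht1
  have ht2 : act t (bas 0) = (c / c' * a) • bas 0 := by
    have := congrArg (fun v => R F (sh 1 (show 1 + (m + 3) ≤ m + 4 by omega)) *ᵥ v) ht1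
    simp only [RP_vec (sh_inj 1 (show 1 + (m + 3) ≤ m + 4 by omega))] at this
    exact this
  obtain ⟨hν, t', rfl⟩ := exists_line_decomp hF (k := m + 2) (show 0 + 2 ≤ m + 3 by omega) (by omega) t 0 (by simp)
    _ ht2
  set x := blk hF 0 (show 0 + 2 ≤ 3 by omega) (dia hF a ha) *
    blk hF 1 (show 1 + 2 ≤ 3 by omega) (dia hF (c / c' * a) hν) with hx
  set w := blk hF 0 (show 0 + 2 ≤ 3 by omega) (w2 hF) with hw
  have hkx : k = A hF φ ψ x * B hF φ ψ (blk hF 1 (by omega) t') := by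
    rw [hkt, hx, map_mul, map_mul, A_blk1 ag, dA, mul_assoc]
  rw [hg', QuotientGroup.eq]
  have : (g * W hF φ ψ)⁻¹ * (g * k * W hF φ ψ) =
      A hF φ ψ (w⁻¹ * x * w) * B hF φ ψ (blk hF 1 (by omega) t') := by
    rw [hkx, W, map_mul (A hF φ ψ) (w⁻¹ * x) w, map_mul (A hF φ ψ) w⁻¹ x, map_inv]
    simp only [_root_.mul_inv_rev, mul_assoc, inv_mul_cancel_left]
    rw [hw, ← A_comm cm]
  rw [this]
  refine (K ag cm gM).mul_mem (A_mem ag cm gM _ (c / c' * a * a ^ q) ?_) (B_mem ag cm gM _)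
  have hd1 : act (blk hF 0 (show 0 + 2 ≤ 3 by omega) (dia hF a ha)) (bas 1) = a ^ q • bas 1 :=
    act_blk_line _ _ (dia_bas1 a ha) _ _ (by simp) (by simp)
  have hd2 : act (blk hF 1 (show 1 + 2 ≤ 3 by omega) (dia hF (c / c' * a) hν)) (bas 1) =
      (c / c' * a) • bas 1 :=
    act_blk_line _ _ (dia_bas0 _ hν) _ _ (by simp) (by simp)
  have hwi : act w⁻¹ (bas 1) = (-1 : F) • bas 0 := by
    have h0 := act_inv w (bas 0)
    rw [hw, w0_bas0, act_smul] at h0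
    rw [hw, ← h0, smul_smul]
    simp
  rw [act_mul, act_mul, hw, w0_bas0, ← hw, hx]
  simp only [act_mul, act_smul, hd2, hd1, hwi, smul_smul]
  congr 1
  ring

theorem over_w10 (g : E hF φ ψ) : Over ag cm gM ⟪g * A hF φ ψ (w10 hF)⟫ (pa hF φ ψ g (bas 2)) :=
  ⟨_, rfl, 1, by rw [one_pow, one_mul], by rw [pa_mul, pa_w10, one_smul]⟩

theorem adj_w10 (g : E hF φ ψ) : Adj ag cm gM ⟪g⟫ ⟪g * A hF φ ψ (w10 hF)⟫ :=
  ⟨g * A hF φ ψ (blk hF 1 (by omega) (w2 hF)), (mk_mul_mem ag cm gM g (A1_mem ag cm gM _)).symm, by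
    rw [mul_assoc, W, ← map_mul, w10]⟩

theorem adj_u (g : E hF φ ψ) (x : Cfsg.SU 2 F q) :
    Adj ag cm gM ⟪g * A hF φ ψ (w10 hF)⟫ ⟪g * A hF φ ψ (blk hF 0 (by omega) x)⟫ := by
  refine adj_symm ag cm gM ⟨g * A hF φ ψ (blk hF 0 (by omega) x * blk hF 1 (by omega) (w2 hF)), ?_, ?_⟩
  · exact A_coset ag cm gM g (by rw [act_mul, w1_bas0])
  · rw [mul_assoc g, W, ← map_mul]
    refine A_coset ag cm gM g ?_
    rw [w10_bas0, mul_assoc, act_mul, ← w10, w10_bas0, blk_off 0 _ _ _ (Or.inr (by simp))]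

theorem B2_bas (t : Cfsg.SU (m + 2) F q) (i : Fin (m + 4)) (hi : (i : ℕ) < 2) :
    pa hF φ ψ (B hF φ ψ (blk hF 1 (by omega) t)) (bas i) = bas i := by
  rw [pa, pr_B, blk_blk, blk_off _ _ t i (Or.inl (by omega))]

theorem exists_move2 {v : Fin (m + 4) → F} (hv : Cfsg.hermForm (m + 4) F q v v = 1) (h0 : v 0 = 0) (h1 : v 1 = 0) :
    ∃ t : Cfsg.SU (m + 2) F q, pa hF φ ψ (B hF φ ψ (blk hF 1 (by omega) t)) (bas 2) = v := by
  obtain ⟨t, ht⟩ := exists_tail_move hF (o := 2) (k := m + 2) (by omega) (by omega) hv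
    (fun i hi => by
      rcases (show (i : ℕ) = 0 ∨ (i : ℕ) = 1 by omega) with h | h
      · rw [show i = 0 from Fin.ext (by simpa using h), h0]
      · rw [show i = 1 from Fin.ext (by simpa using h), h1]) 2 val2
  refine ⟨t, ?_⟩
  rw [pa, pr_B, blk_blk, blk_congr (show 1 + 1 = 2 by rfl) _ (by omega)]
  exact ht

theorem tri {X Y Z : Vert ag cm gM} {a c : Fin (m + 4) → F} (hXY : Adj ag cm gM X Y) (hYZ : Adj ag cm gM Y Z)
    (oa : Over ag cm gM X a) (oc : Over ag cm gM Z c) (hac : Cfsg.hermForm (m + 4) F q a c = 0) :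
    Adj ag cm gM X Z := by
  obtain ⟨g, rfl, rfl⟩ := adj_symm ag cm gM hXY
  obtain ⟨e, he, rfl⟩ := over_of_mk ag cm gM _ oa
  have oY : Over ag cm gM ⟪g⟫ (pa hF φ ψ g (bas 0)) := ⟨g, rfl, 1, by rw [one_pow, one_mul], (one_smul _ _).symm⟩
  have hY := adj_orth ag cm gM hYZ oY oc
  set z := pa hF φ ψ g⁻¹ c with hz
  have hgz : pa hF φ ψ g z = c := by rw [hz, ← pa_mul, mul_inv_cancel, pa_one]
  have hzz : Cfsg.hermForm (m + 4) F q z z = 1 := by rw [← h_pa g, hgz, over_unit ag cm gM oc]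
  rw [← hgz, h_pa] at hY
  rw [← hgz, pa_mul, pa_W0, pa_smul, herm_smul_left hF, herm_smul_left hF, h_pa] at hac
  have hz0 : z 0 = 0 := by
    rw [← h_bas_right (q := q) z 0 (q_ne_zero hF)]; exact h_symm hF hY
  have he0 : e ≠ 0 := fun e0 => by rw [e0, zero_mul] at he; exact zero_ne_one he
  have hz1 : z 1 = 0 := by
    rw [← h_bas_right (q := q) z 1 (q_ne_zero hF)]
    exact h_symm hF (((mul_eq_zero.mp hac).resolve_left he0 |> mul_eq_zero.mp).resolve_left (by simp))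
  obtain ⟨t, ht⟩ := exists_move2 (φ := φ) (ψ := ψ) hzz hz0 hz1
  set g2 := g * B hF φ ψ (blk hF 1 (by omega) t) with hg2
  have hgY : ⟪g⟫ = ⟪g2⟫ := (mk_mul_mem ag cm gM g (B_mem ag cm gM _)).symm
  have hgX : ⟪g * W hF φ ψ⟫ = ⟪g2 * W hF φ ψ⟫ := by
    rw [hg2, mul_assoc, W, ← A_comm cm, ← mul_assoc, mk_mul_mem ag cm gM _ (B_mem ag cm gM _)]
  have oZ' : Over ag cm gM ⟪g2 * A hF φ ψ (w10 hF)⟫ c := by
    have := over_w10 ag cm gM g2
    rwa [hg2, pa_mul, ht, hgz] at this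
  have hZ : Z = ⟪g2 * A hF φ ψ (w10 hF)⟫ :=
    unique ag cm gM hYZ (hgY ▸ adj_w10 ag cm gM g2) oc oZ'
  rw [hgX, hZ]
  refine ⟨g2 * W hF φ ψ * A hF φ ψ (blk hF 1 (by omega) (w2 hF)),
    (mk_mul_mem ag cm gM _ (A1_mem ag cm gM _)).symm, ?_⟩
  rw [mul_assoc g2, mul_assoc g2, W, ← map_mul, ← map_mul]
  refine A_coset ag cm gM g2 ?_
  rw [w10_bas0, act_mul]
  rw [w0_bas0, act_smul, act_mul, w1_bas1, act_smul, w0_bas2, smul_smul]
  simp

theorem good {X Y Y' Z Z' : Vert ag cm gM} {a c : Fin (m + 4) → F} (oa : Over ag cm gM X a)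
    (oc : Over ag cm gM Z c) (oc' : Over ag cm gM Z' c)
    (hne : Cfsg.hermForm (m + 4) F q a c * Cfsg.hermForm (m + 4) F q a c ^ q ≠ 1)
    (hXY : Adj ag cm gM X Y) (hYZ : Adj ag cm gM Y Z) (hXY' : Adj ag cm gM X Y') (hYZ' : Adj ag cm gM Y' Z') :
    Z = Z' := by
  have hq := q_ne_zero hF
  obtain ⟨g, rfl, e, he, rfl⟩ := oa
  set z := pa hF φ ψ g⁻¹ c with hz
  have hgz : pa hF φ ψ g z = c := by rw [hz, ← pa_mul, mul_inv_cancel, pa_one]
  have hzz : Cfsg.hermForm (m + 4) F q z z = 1 := by rw [← h_pa g, hgz, over_unit ag cm gM oc]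
  set α := z 0 with hα
  have h0z : Cfsg.hermForm (m + 4) F q (bas 0) z = α ^ q := by rw [← herm_conj hF, h_bas_right _ _ hq]
  have hne' : α * α ^ q ≠ 1 := fun e1 => hne (by
    rw [← hgz, herm_smul_left hF, h_pa, h0z, mul_pow, pow_q_pow_q hF]
    linear_combination (e * e ^ q) * e1 + he)
  set r := z - α • (bas 0 : Fin (m + 4) → F) with hr
  have hr0 : r 0 = 0 := by simp [hr, hα]
  have hrr : Cfsg.hermForm (m + 4) F q r r = 1 - α * α ^ q := by
    rw [hr]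
    simp only [h_sub_left hF, h_sub_right hF, herm_smul_left hF, herm_smul_right hF, hzz, h0z, h_bas hF,
      h_bas_right _ _ hq, ← hα]
    ring
  have hrne : Cfsg.hermForm (m + 4) F q r r ≠ 0 := by rw [hrr]; exact sub_ne_zero.mpr (Ne.symm hne')
  obtain ⟨s, hs0, hs⟩ := exists_scale hF hrne
  obtain ⟨t, ht⟩ := exists_tail_move hF (o := 1) (k := m + 3) (by omega) (by omega) hs
    (fun i hi => by rw [show i = 0 from Fin.ext (by rw [Fin.val_zero]; omega), Pi.smul_apply, hr0, smul_zero]) 1 (by simp)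
  set g2 := g * B hF φ ψ t with hg2
  set β := s⁻¹ with hβ
  have hX : ⟪g⟫ = ⟪g2⟫ := (mk_mul_mem ag cm gM g (B_mem ag cm gM t)).symm
  have hc2 : pa hF φ ψ g2 (α • bas 0 + β • bas 1) = c := by
    rw [hg2, pa_mul, pa_add, pa_smul, pa_smul, pa_B0, show pa hF φ ψ (B hF φ ψ t) (bas 1) = s • r from ht,
      smul_smul, hβ, inv_mul_cancel₀ hs0, one_smul, hr, add_sub_cancel, hgz]
  have hab : α * α ^ q + β * β ^ q = 1 := by
    rw [herm_smul_left hF, herm_smul_right hF, hrr] at hs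
    have : β * β ^ q = 1 - α * α ^ q := by
      rw [hβ, inv_pow]
      have := pow_ne_zero q hs0
      field_simp
      linear_combination -hs
    rw [this]; ring
  have key : ∀ Y Z, Adj ag cm gM ⟪g⟫ Y → Adj ag cm gM Y Z → Over ag cm gM Z c →
      Z = ⟪g2 * A hF φ ψ (blk hF 0 (by omega) (mk2 hF α β hab))⟫ := by
    intro Y Z hXY hYZ oc
    obtain ⟨h, rfl⟩ := QuotientGroup.mk_surjective Y
    have ob : Over ag cm gM ⟪h⟫ (pa hF φ ψ h (bas 0)) := ⟨h, rfl, 1, by rw [one_pow, one_mul], (one_smul _ _).symm⟩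
    set b := pa hF φ ψ h (bas 0)
    set y := pa hF φ ψ g2⁻¹ b with hy
    have hgy : pa hF φ ψ g2 y = b := by rw [hy, ← pa_mul, mul_inv_cancel, pa_one]
    have hyy : Cfsg.hermForm (m + 4) F q y y = 1 := by rw [← h_pa g2, hgy, over_unit ag cm gM ob]
    have o2 : Over ag cm gM ⟪g⟫ (pa hF φ ψ g2 (bas 0)) :=
      ⟨g2, hX, 1, by rw [one_pow, one_mul], (one_smul _ _).symm⟩
    have h1 := adj_orth ag cm gM hXY o2 ob
    rw [← hgy, h_pa] at h1
    have h2 := adj_orth ag cm gM hYZ ob oc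
    rw [← hgy, ← hc2, h_pa, herm_add_right hF, herm_smul_right hF, herm_smul_right hF, h_bas_right _ _ hq,
      h_bas_right _ _ hq] at h2
    have hy0 : y 0 = 0 := by rw [← h_bas_right (q := q) y 0 hq]; exact h_symm hF h1
    have hy1 : y 1 = 0 := by
      rw [hy0, mul_zero, zero_add] at h2
      exact (mul_eq_zero.mp h2).resolve_left (pow_ne_zero _ (inv_ne_zero hs0))
    obtain ⟨t', ht'⟩ := exists_move2 (φ := φ) (ψ := ψ) hyy hy0 hy1
    set g3 := g2 * B hF φ ψ (blk hF 1 (by omega) t') with hg3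
    have hX3 : ⟪g⟫ = ⟪g3⟫ := hX.trans (mk_mul_mem ag cm gM g2 (B_mem ag cm gM _)).symm
    have oY : Over ag cm gM ⟪g3 * A hF φ ψ (w10 hF)⟫ b := by
      have := over_w10 ag cm gM g3
      rwa [hg3, pa_mul, ht', hgy] at this
    have hY := unique ag cm gM hXY (hX3 ▸ adj_w10 ag cm gM g3) ob oY
    rw [hY] at hYZ
    have hu : pa hF φ ψ (A hF φ ψ (blk hF 0 (by omega) (mk2 hF α β hab))) (bas 0) = α • bas 0 + β • bas 1 := by
      rw [pa, pr_A]
      exact act_blk_two (a := 0) (b := 0) (b' := 1) _ _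
        (act_blk_two (a := 0) (b := 0) (b' := 1) _ _ (mk2_bas0 α β hab) _ _ _ (by simp) (by simp) (by simp))
        _ _ _ (by simp) (by simp) (by simp)
    have oZ : Over ag cm gM ⟪g3 * A hF φ ψ (blk hF 0 (by omega) (mk2 hF α β hab))⟫ c := by
      refine ⟨_, rfl, 1, by rw [one_pow, one_mul], ?_⟩
      rw [pa_mul, hu, hg3, pa_mul, pa_add (B hF φ ψ _), pa_smul, pa_smul, B2_bas _ _ (by simp),
        B2_bas _ _ (by simp), hc2, one_smul]
    rw [unique ag cm gM hYZ (adj_u ag cm gM g3 _) oc oZ, hg3, mul_assoc, ← A_comm cm, ← mul_assoc,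
      mk_mul_mem ag cm gM _ (B_mem ag cm gM _)]
  rw [key Y Z hXY hYZ oc, key Y' Z' hXY' hYZ' oc']

/-- The cover of the orthogonality graph. -/
noncomputable def cov : Cov q (m + 4) F (Vert ag cm gM) where
  Adj := Adj ag cm gM
  Over := Over ag cm gM
  symm := adj_symm ag cm gM
  exists_over X := by
    obtain ⟨g, rfl⟩ := QuotientGroup.mk_surjective X
    exact ⟨_, g, rfl, 1, by rw [one_pow, one_mul], rfl⟩
  over_unit := over_unit ag cm gM
  over_phase := by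
    rintro X v d ⟨g, rfl, c, hc, rfl⟩ hd
    exact ⟨g, rfl, d * c, by rw [mul_pow, mul_mul_mul_comm, hd, hc, one_mul], by rw [smul_smul]⟩
  adj_orth := adj_orth ag cm gM
  lift := lift ag cm gM
  unique := unique ag cm gM
  tri := tri ag cm gM
  good := good ag cm gM

/-- Left translation preserves paths. -/
theorem reach (g3 : BlkGen hF 3) (g h : E hF φ ψ) :
    Relation.ReflTransGen (Adj ag cm gM) ⟪h⟫ ⟪h * g⟫ := by
  let S : Subgroup (E hF φ ψ) :=
    { carrier := {g | ∀ h, Relation.ReflTransGen (Adj ag cm gM) ⟪h⟫ ⟪h * g⟫}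
      one_mem' := fun h => by rw [mul_one]
      mul_mem' := fun {a b} ha hb h => (ha h).trans (by rw [← mul_assoc]; exact hb (h * a))
      inv_mem' := fun {a} ha h => by
        have := ha (h * a⁻¹)
        rw [inv_mul_cancel_right] at this
        clear ha
        generalize (⟪h⟫) = P at this ⊢
        generalize (⟪h * a⁻¹⟫) = Q at this ⊢
        induction this with
        | refl => exact .refl
        | tail _ st ih => exact (Relation.ReflTransGen.single (adj_symm ag cm gM st)).trans ih }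
  have hB : ∀ t, B hF φ ψ t ∈ S := fun t h => by rw [mk_mul_mem ag cm gM h (B_mem ag cm gM t)]
  have hA : ∀ x, A hF φ ψ x ∈ S := g3 (S.comap (A hF φ ψ)) fun i hi x => by
    show A hF φ ψ (blk hF i hi x) ∈ S
    rcases (show i = 0 ∨ i = 1 by omega) with rfl | rfl
    · intro h
      exact (Relation.ReflTransGen.single (adj_w10 ag cm gM h)).tail (adj_u ag cm gM h x)
    · rw [A_blk1 ag]; exact hB _
  have hSE : S.map (E hF φ ψ).subtype = E hF φ ψ := by
    refine le_antisymm (Subgroup.map_subtype_le _) (sup_le ?_ ?_)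
    · rintro _ ⟨x, rfl⟩; exact ⟨_, hA x, rfl⟩
    · rintro _ ⟨x, rfl⟩; exact ⟨_, hB x, rfl⟩
  obtain ⟨g', hg', e⟩ := hSE.ge g.2
  exact Subtype.ext e ▸ hg' h

include ag cm gM in
/-- The two blocks extend to the whole special unitary group. -/
theorem exists_extend (hq : 3 < q) (g3 : BlkGen hF 3) (gN : BlkGen hF (m + 4)) :
    ∃ Φ : Cfsg.SU (m + 4) F q →* G, (∀ x, Φ (blk hF 0 (by omega) x) = φ x) ∧
      ∀ t, Φ (blk hF 1 (by omega) t) = ψ t := by
  have hinj : Function.Injective (pr hF φ ψ) := (injective_iff_map_eq_one _).mpr fun g hg => by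
    have o : (cov ag cm gM).Over ⟪g⟫ (bas 0) :=
      ⟨g, rfl, 1, by rw [one_pow, one_mul], by rw [pa, hg, act_one, one_smul]⟩
    have o1 : (cov ag cm gM).Over ⟪1⟫ (bas 0) :=
      ⟨1, rfl, 1, by rw [one_pow, one_mul], by rw [pa_one, one_smul]⟩
    have hc := reach ag cm gM g3 g 1
    rw [one_mul] at hc
    have e := (cov ag cm gM).eq_base hF hq (by omega) hc o1 o
    refine K_pr ag cm gM ?_ hg
    simpa using QuotientGroup.eq.mp e.symm
  have hsurj : Function.Surjective (pr hF φ ψ) := fun x => by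
    refine gN (pr hF φ ψ).range (fun i hi y => ?_) x
    rcases Nat.eq_zero_or_pos i with rfl | hi0
    · exact ⟨A hF φ ψ (blk hF 0 (by omega) y), by rw [pr_A, blk_blk]⟩
    · obtain ⟨j, rfl⟩ : ∃ j, i = j + 1 := ⟨i - 1, by omega⟩
      exact ⟨B hF φ ψ (blk hF j (by omega) y), by rw [pr_B, blk_blk]; exact blk_congr (add_comm _ _) _ _ _⟩
  let e := MulEquiv.ofBijective (pr hF φ ψ) ⟨hinj, hsurj⟩
  refine ⟨((MonoidHom.snd _ _).comp (E hF φ ψ).subtype).comp e.symm.toMonoidHom, fun x => ?_, fun t => ?_⟩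
  · show (e.symm (pr hF φ ψ (A hF φ ψ x))).1.2 = φ x
    rw [show pr hF φ ψ (A hF φ ψ x) = e (A hF φ ψ x) from rfl, e.symm_apply_apply]
    rfl
  · show (e.symm (pr hF φ ψ (B hF φ ψ t))).1.2 = ψ t
    rw [show pr hF φ ψ (B hF φ ψ t) = e (B hF φ ψ t) from rfl, e.symm_apply_apply]
    rfl

end Hyp

end Amalgam

end Cfsg.Agent.Lib.Phan
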