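import Cfsg.Agent.Lib.Phan.Torus

/-!
A subgroup `SU₂(q)` of `SU₃(q)` fixes the fixed line of its torus.
-/

set_option autoImplicit false

namespace Cfsg.Agent.Lib.Phan

open Matrix Cfsg.Agent.Lib.Forms Cfsg.Agent.Lib.UnitaryMax
open scoped commutatorElement

variable {F : Type*} [Field F] [Fintype F] {q : ℕ}

theorem su2_perfect (hF : Fintype.card F = q ^ 2) (hq : 3 < q) : commutator (Cfsg.SU 2 F q) = ⊤ := by
  obtain ⟨K, _, _, hK⟩ : ∃ (K : Type) (_ : Field K) (_ : Fintype K), Fintype.card K = q := by
    obtain ⟨p, j, hp, hj, hpj⟩ := (isPrimePow_nat_iff q).mp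
      (isPrimePow_pow_iff two_ne_zero |>.mp (hF ▸ FiniteField.isPrimePow_card F))
    haveI := Fact.mk hp
    letI : Fintype (GaloisField p j) := Fintype.ofFinite _
    exact ⟨GaloisField p j, inferInstance, inferInstance, by
      rw [← Nat.card_eq_fintype_card, GaloisField.card p j (by omega), hpj]⟩
  obtain ⟨ι, P, e, -⟩ := exists_conj_equiv hF hK
  have h1 : commutator (Matrix.SpecialLinearGroup (Fin 2) K) = ⊤ :=
    LinGroup.commutator_SL_fin_eq_top le_rfl fun _ => by rw [Nat.card_eq_fintype_card, hK]; omega
  have h2 := congrArg (Subgroup.map e.toMonoidHom) h1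
  rw [commutator_def, Subgroup.map_commutator, Subgroup.map_top_of_surjective _ e.surjective] at h2
  rwa [commutator_def]

theorem dia_congr (hF : Fintype.card F = q ^ 2) {a b : F} (ha : a * a ^ q = 1) (hb : b * b ^ q = 1) (e : a = b) :
    dia hF a ha = dia hF b hb := by subst e; rfl

/-- The image of `SU₂` containing a standard torus element fixes the third basis vector. -/
theorem fix_two (hF : Fintype.card F = q ^ 2) (hq : 3 < q) (f : Cfsg.SU 2 F q →* Cfsg.SU 3 F q)
    (hf : Function.Injective f) (l a : F) (hl : l * l ^ q = 1) (ha : a * a ^ q = 1) (ha2 : a * a ≠ 1)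
    (hfd : f (dia hF l hl) = blk hF 0 (by omega) (dia hF a ha)) (x : Cfsg.SU 2 F q) :
    act (f x) (bas 2) = bas 2 := by
  classical
  have hq0 := q_ne_zero hF
  set M := blk hF 0 (show 0 + 2 ≤ 3 by omega) (dia hF a ha) with hM
  have hM0 : act M (bas 0) = a • bas 0 := act_blk_line _ _ (dia_bas0 _ _) _ _ (by simp) (by simp)
  have hM1 : act M (bas 1) = a ^ q • bas 1 := act_blk_line _ _ (dia_bas1 _ _) _ _ (by simp) (by simp)
  have hM2 : act M (bas 2) = bas 2 := blk_off _ _ _ _ (Or.inr (by simp))
  have haq1 : a ^ q ≠ 1 := fun e => ha2 (by rw [e, mul_one] at ha; rw [ha, one_mul])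
  have ha1 : a ≠ 1 := fun e => ha2 (by rw [e, one_mul])
  have haqa : a ^ q ≠ a := fun e => ha2 (by rwa [e] at ha)
  -- eigenvectors of the torus element
  have comp : ∀ (v : Fin 3 → F) (d : F), d * d ^ q = 1 → act M v = d • v → ∀ (j : Fin 3) (e : F), e * e ^ q = 1 →
      act M (bas j) = e • bas j → d ≠ e → v j = 0 := by
    intro v d hd hv j e he hj hne
    have h1 := h_act M v (bas j)
    rw [hv, hj, herm_smul_left hF, herm_smul_right hF, h_bas_right _ _ hq0] at h1
    by_contra h0
    refine hne ?_
    have h2 : d * e ^ q = 1 := mul_right_cancel₀ h0 (by rw [one_mul, mul_assoc]; exact h1)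
    linear_combination e * h2 - d * he
  have fixed : ∀ v : Fin 3 → F, act M v = v → v = v 2 • bas 2 := by
    intro v hv
    have hv' : act M v = (1 : F) • v := by rw [hv, one_smul]
    have v0 := comp v 1 (by rw [one_pow, one_mul]) hv' 0 a ha hM0 (Ne.symm ha1)
    have v1 := comp v 1 (by rw [one_pow, one_mul]) hv' 1 (a ^ q) (norm_conj hF ha) hM1 (Ne.symm haq1)
    funext i
    fin_cases i <;> simp [v0, v1]
  have line0 : ∀ v : Fin 3 → F, act M v = a ^ q • v → v = v 1 • bas 1 := by
    intro v hv
    have v0 := comp v _ (norm_conj hF ha) hv 0 a ha hM0 haqa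
    have v2 := comp v _ (norm_conj hF ha) hv 2 1 (by rw [one_pow, one_mul]) (by rw [hM2, one_smul]) haq1
    funext i
    fin_cases i <;> simp [v0, v2]
  -- inverting elements
  have inverting : ∀ (β : F) (hβ : (0 : F) * 0 ^ q + β * β ^ q = 1),
      act (f (mk2 hF 0 β hβ)) (bas 2) = (act (f (mk2 hF 0 β hβ)) (bas 2)) 2 • bas 2 ∧
        act (f (mk2 hF 0 β hβ)) (bas 0) = (act (f (mk2 hF 0 β hβ)) (bas 0)) 1 • bas 1 := by
    intro β hβ
    set W := f (mk2 hF 0 β hβ) with hW
    have e : mk2 hF 0 β hβ * dia hF l hl = dia hF (l ^ q) (norm_conj hF hl) * mk2 hF 0 β hβ := by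
      refine ext_mat ?_
      rw [mat_mul, mat_mul, dia, dia, mat_mk2, mat_mk2, mat_mk2]
      ext i j
      fin_cases i <;> fin_cases j <;>
        simp [Matrix.mul_apply, Fin.sum_univ_two, q_zero hF, pow_q_pow_q hF, mul_comm]
    have eW : W * M = M⁻¹ * W := by
      rw [hW, ← hfd, ← map_inv, dia_inv, ← map_mul, ← map_mul, e]
    constructor
    · refine fixed _ ?_
      have h1 := congrArg (fun z => act M (act z (bas 2))) eW
      simp only [act_mul, act_inv', hM2] at h1
      exact h1
    · refine line0 _ ?_
      have h1 := congrArg (fun z => a ^ q • act M (act z (bas 0))) eW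
      simp only [act_mul, act_inv', hM0, act_smul, smul_smul, mul_comm (a ^ q) a, ha, one_smul] at h1
      exact h1
  obtain ⟨hW2, hW0⟩ := inverting (-1) (by rw [q_zero hF, q_neg hF, one_pow]; ring)
  by_cases h2 : (2 : F) = 0
  · -- even characteristic
    have hneg : ∀ z : F, -z = z := fun z => by linear_combination (-z) * h2
    let S : Subgroup (Cfsg.SU 2 F q) :=
      { carrier := {x | act (f x) (bas 2) = bas 2}
        one_mem' := by simp [act_one]
        mul_mem' := fun {x y} (hx : act (f x) (bas 2) = bas 2) (hy : act (f y) (bas 2) = bas 2) => by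
          show act (f (x * y)) (bas 2) = bas 2
          rw [map_mul, act_mul, hy, hx]
        inv_mem' := fun {x} (hx : act (f x) (bas 2) = bas 2) => by
          show act (f x⁻¹) (bas 2) = bas 2
          conv_lhs => rw [← hx]
          rw [map_inv, act_inv] }
    suffices hS : x ∈ S from hS
    -- involutions
    have winv : ∀ (β : F) (hβ : (0 : F) * 0 ^ q + β * β ^ q = 1), mk2 hF 0 β hβ * mk2 hF 0 β hβ = 1 := by
      intro β hβ
      refine ext_mat ?_
      rw [mat_mul, mat_mk2, mat_one]
      rw [q_zero hF, mul_zero, zero_add] at hβ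
      ext i j
      fin_cases i <;> fin_cases j <;> simp [Matrix.mul_apply, Fin.sum_univ_two, q_zero hF]
      · linear_combination hneg (β ^ q * β) + hβ
      · linear_combination hneg (β * β ^ q) + hβ
    have invol : ∀ s : Cfsg.SU 2 F q, s * s = 1 → ∀ (β : F) (hβ : (0 : F) * 0 ^ q + β * β ^ q = 1),
        s * mk2 hF 0 β hβ = mk2 hF 0 β hβ * s → s ∈ S := by
      intro s hs β hβ hcomm
      obtain ⟨w2', w0'⟩ := inverting β hβ
      set W := f (mk2 hF 0 β hβ) with hW
      set μ := (act W (bas 2)) 2
      set c := (act W (bas 0)) 1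
      have WW : ∀ v, act W (act W v) = v := fun v => by rw [← act_mul, hW, ← map_mul, winv, map_one, act_one]
      have hc : c * c ^ q = 1 := by
        have h1 := h_act W (bas 0) (bas 0)
        rw [w0', herm_smul_left hF, herm_smul_right hF, h_bas_right _ _ hq0, h_bas_right _ _ hq0] at h1
        simpa using h1
      have hc0 : c ≠ 0 := fun e => by rw [e, zero_mul] at hc; exact zero_ne_one hc
      have w1' : act W (bas 1) = c⁻¹ • bas 0 := by
        have h1 := congrArg (fun v => c⁻¹ • act W v) w0'
        simp only [act_smul, WW, smul_smul, inv_mul_cancel₀ hc0, one_smul] at h1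
        exact h1.symm
      have hμ : μ = 1 := by
        have h1 := WW (bas 2)
        rw [w2', act_smul, w2', smul_smul] at h1
        have h3 := congrFun h1 2
        simp at h3
        have h4 : (μ - 1) * (μ - 1) = 0 := by linear_combination h3 + (1 - μ) * h2
        linear_combination mul_self_eq_zero.mp h4
      rw [hμ, one_smul] at w2'
      have exW : ∀ y : Fin 3 → F, y = y 0 • bas 0 + y 1 • bas 1 + y 2 • bas 2 := fun y => by
        funext i; fin_cases i <;> simp
      have Wy : ∀ y : Fin 3 → F, act W y = (y 1 / c) • bas 0 + (y 0 * c) • bas 1 + y 2 • bas 2 := fun y => by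
        conv_lhs => rw [exW y]
        rw [act, mulVec_add, mulVec_add, mulVec_smul, mulVec_smul, mulVec_smul]
        change y 0 • act W (bas 0) + y 1 • act W (bas 1) + y 2 • act W (bas 2) = _
        rw [w0', w1', w2', smul_smul, smul_smul, div_eq_mul_inv, add_comm ((y 0 * c) • bas 1)]
      set T := f s with hT
      have hTW : ∀ v, act T (act W v) = act W (act T v) := fun v => by
        rw [← act_mul, ← act_mul, hT, hW, ← map_mul, ← map_mul, hcomm]
      have TT : ∀ v, act T (act T v) = v := fun v => by rw [← act_mul, hT, ← map_mul, hs, map_one, act_one]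
      set v : Fin 3 → F := c • bas 1 + bas 0 with hv
      have hWv : act W v = v := by
        rw [Wy]; funext i; fin_cases i <;> simp [hv, hc0]
      -- the fixed plane of the inverting involution
      have plane : ∀ y : Fin 3 → F, act W y = y → y = y 0 • v + y 2 • bas 2 := by
        intro y hy
        rw [Wy] at hy
        have h1 := congrFun hy 1
        simp at h1
        funext i
        fin_cases i <;> simp [hv, h1, mul_comm]
      have hone : ∀ z : F, z * z = 1 → z = 1 := fun z hz => by
        have h4 : (z - 1) * (z - 1) = 0 := by linear_combination hz + (1 - z) * h2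
        linear_combination mul_self_eq_zero.mp h4
      set y := act T (bas 0) with hy
      set ν := y 0 + y 1 / c with hν
      have hve : v = act W (bas 0) + bas 0 := by rw [w0']
      have hTv : act T v = ν • v := by
        have h1 : act T v = act W y + y := by
          rw [hy, ← hTW, hve, act, mulVec_add]
          rfl
        rw [h1, Wy]
        funext i
        fin_cases i <;> simp [hv, hν]
        · ring
        · field_simp
        · linear_combination (y 2) * h2
      have hν1 : ν = 1 := by
        refine hone ν ?_
        have h1 := TT v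
        rw [hTv, act_smul, hTv, smul_smul] at h1
        have h3 := congrFun h1 0
        simpa [hv] using h3
      rw [hν1, one_smul] at hTv
      set z := act T (bas 2) with hz
      have hWz : act W z = z := by rw [hz, ← hTW, w2']
      have hzp := plane z hWz
      set κ := z 0
      have hz2 : z 2 = 1 := by
        refine hone _ ?_
        have h1 := TT (bas 2)
        rw [← hz, hzp, act, mulVec_add, mulVec_smul, mulVec_smul] at h1
        change κ • act T v + z 2 • act T (bas 2) = bas 2 at h1
        rw [hTv, ← hz, hzp] at h1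
        have h3 := congrFun h1 2
        simpa [hv] using h3
      rw [hz2, one_smul] at hzp
      set b := y 1 / c with hb
      have hyd : y = bas 0 + b • v + y 2 • bas 2 := by
        funext i
        fin_cases i <;> simp [hv, hb, hc0]
        linear_combination hν1 - hν - b * h2
      have hvv : Cfsg.hermForm 3 F q v v = 0 := by
        simp [hv, herm_add_left hF, herm_add_right hF, herm_smul_left hF, herm_smul_right hF, h_bas_right _ _ hq0, hc]
        linear_combination h2
      have hv0 : Cfsg.hermForm 3 F q v (bas 0) = 1 := by rw [h_bas_right _ _ hq0]; simp [hv]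
      have hv2 : Cfsg.hermForm 3 F q v (bas 2) = 0 := by rw [h_bas_right _ _ hq0]; simp [hv]
      have hk : y 2 ^ q = κ := by
        have h1 := h_act T (bas 2) (bas 0)
        rw [← hz, ← hy, hzp, hyd] at h1
        simp [herm_add_left hF, herm_add_right hF, herm_smul_left hF, herm_smul_right hF, hvv, hv0, hv2,
          h_symm hF hv2, h_bas_right _ _ hq0] at h1
        linear_combination h1 - κ * h2
      have hyk : y 2 * κ = 0 := by
        have h1 := TT (bas 0)
        rw [← hy, hyd, act, mulVec_add, mulVec_add, mulVec_smul, mulVec_smul] at h1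
        change act T (bas 0) + b • act T v + y 2 • act T (bas 2) = bas 0 at h1
        rw [← hy, hTv, ← hz, hzp, hyd] at h1
        have h3 := congrFun h1 0
        simp [hv] at h3
        linear_combination h3 - b * h2
      have hκ : κ = 0 := by
        rcases mul_eq_zero.mp hyk with e | e
        · rw [← hk, e, q_zero hF]
        · exact e
      show act T (bas 2) = bas 2
      rw [← hz, hzp, hκ, zero_smul, zero_add]
    have sq : ∀ w : F, ∃ z : F, z * z = w := fun w => by
      refine Finite.surjective_of_injective (fun z₁ z₂ (e : z₁ * z₁ = z₂ * z₂) => ?_) w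
      have h4 : (z₁ - z₂) * (z₁ - z₂) = 0 := by linear_combination e + (z₂ * z₂ - z₁ * z₂) * h2
      linear_combination mul_self_eq_zero.mp h4
    have real : ∀ (r b : F) (h : r * r ^ q + b * b ^ q = 1), r ^ q = r → mk2 hF r b h ∈ S := by
      intro r b h hr
      have hss : mk2 hF r b h * mk2 hF r b h = 1 := by
        refine ext_mat ?_
        rw [mat_mul, mat_mk2, mat_one]
        rw [hr] at h
        ext i j
        fin_cases i <;> fin_cases j <;> simp [Matrix.mul_apply, Fin.sum_univ_two, hr]
        · linear_combination h - (b * b ^ q) * h2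
        · linear_combination -(r * b ^ q) * h2
        · linear_combination (r * b) * h2
        · linear_combination h - (b * b ^ q) * h2
      by_cases hb : b = 0
      · subst hb
        have hr1 : r = 1 := by
          rw [hr, zero_mul, add_zero] at h
          have h4 : (r - 1) * (r - 1) = 0 := by linear_combination h + (1 - r) * h2
          linear_combination mul_self_eq_zero.mp h4
        subst hr1
        rw [show mk2 hF 1 0 h = dia hF 1 (by rw [one_pow, one_mul]) from rfl, dia_one]
        exact S.one_mem
      have hbq : b ^ q ≠ 0 := pow_ne_zero _ hb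
      obtain ⟨β, hβ⟩ := sq (b / b ^ q)
      have hβn : β * β ^ q = 1 := by
        have h4 : (β * β ^ q - 1) * (β * β ^ q - 1) = 0 := by
          have h5 : (β * β ^ q) * (β * β ^ q) = 1 := by
            have h6 : (β * β ^ q) * (β * β ^ q) = (β * β) * (β * β) ^ q := by rw [mul_pow]; ring
            rw [h6, hβ, div_pow, pow_q_pow_q hF]
            field_simp
          linear_combination h5 + (1 - β * β ^ q) * h2
        linear_combination mul_self_eq_zero.mp h4
      refine invol _ hss β (by rw [q_zero hF, mul_zero, zero_add, hβn]) ?_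
      refine ext_mat ?_
      have hβb : β * β * b ^ q = b := by rw [hβ, div_mul_cancel₀ _ hbq]
      rw [mat_mul, mat_mul, mat_mk2, mat_mk2]
      ext i j
      fin_cases i <;> fin_cases j <;> simp [Matrix.mul_apply, Fin.sum_univ_two, hr, q_zero hF, mul_comm]
      · linear_combination β ^ q * hβb - (b ^ q * β) * hβn
      · linear_combination (b ^ q * β) * hβn - β ^ q * hβb
    have hzero : ∀ β : F, β * β ^ q = 1 → ∀ h, mk2 hF 0 β h ∈ S := fun β _ h => real 0 β h (q_zero hF)
    have hdia : ∀ t (ht : t * t ^ q = 1), dia hF t ht ∈ S := by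
      intro t ht
      have e : dia hF t ht = mk2 hF 0 1 (by rw [q_zero hF]; simp) * mk2 hF 0 t (by rw [q_zero hF]; simpa using ht) := by
        refine ext_mat ?_
        rw [mat_mul, dia, mat_mk2, mat_mk2, mat_mk2]
        ext i j
        fin_cases i <;> fin_cases j <;> simp [Matrix.mul_apply, Fin.sum_univ_two, q_zero hF, hneg]
      rw [e]
      exact S.mul_mem (hzero 1 (by simp) _) (hzero t ht _)
    set A := mat x 0 0 with hA
    set B := mat x 1 0 with hB
    have hn := su2_entries hF x
    rw [← hA, ← hB] at hn
    obtain ⟨r, hr⟩ := sq (A * A ^ q)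
    by_cases hA0 : A = 0
    · rw [su2_shape (hF := hF) x]
      exact real _ _ _ (by rw [← hA, hA0, q_zero hF])
    have hr0 : r ≠ 0 := fun e => by
      rw [e, mul_zero] at hr
      exact mul_ne_zero hA0 (pow_ne_zero _ hA0) hr.symm
    have hrq : r ^ q = r := by
      have h4 : (r ^ q - r) * (r ^ q - r) = 0 := by
        have h5 : r ^ q * r ^ q = r * r := by rw [← mul_pow, hr, mul_pow, pow_q_pow_q hF, mul_comm]
        linear_combination h5 + (r * r - r ^ q * r) * h2
      linear_combination mul_self_eq_zero.mp h4
    set t := A / r with ht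
    have htn : t * t ^ q = 1 := by
      rw [ht, div_pow, hrq]
      field_simp
      linear_combination -hr
    have e : x = dia hF t htn * mk2 hF r (t * B) (by
        rw [hrq, mul_pow, mul_mul_mul_comm, htn, one_mul, hr]; exact hn) := by
      refine ext_mat ?_
      rw [mat_mul, congrArg mat (su2_shape (hF := hF) x), dia, mat_mk2, mat_mk2, mat_mk2, ← hA, ← hB]
      have htA : t * r = A := by rw [ht, div_mul_cancel₀ _ hr0]
      have htA' : t ^ q * r = A ^ q := by rw [← htA, mul_pow, hrq]
      ext i j
      fin_cases i <;> fin_cases j <;>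
        simp [Matrix.mul_apply, Fin.sum_univ_two, q_zero hF, hrq, htA, htA', mul_pow]
      · linear_combination -(B ^ q) * htn
      · linear_combination -(B) * htn
    rw [e]
    exact S.mul_mem (hdia _ _) (real _ _ _ hrq)
  · -- odd characteristic
    have hm1 : (-1 : F) * (-1) ^ q = 1 := by rw [q_neg hF, one_pow]; ring
    set z := f (dia hF (-1) hm1) with hz
    have hcen : ∀ y, dia hF (-1) hm1 * y = y * dia hF (-1) hm1 := fun y => by
      refine ext_mat ?_
      rw [mat_mul, mat_mul, dia, mat_mk2]
      ext i j
      fin_cases i <;> fin_cases j <;> simp [Matrix.mul_apply, Fin.sum_univ_two, q_zero hF, q_neg hF]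
    have hzc : ∀ y v, act z (act (f y) v) = act (f y) (act z v) := fun y v => by
      rw [← act_mul, ← act_mul, hz, ← map_mul, ← map_mul, hcen]
    have hzM : ∀ v, act z (act M v) = act M (act z v) := fun v => by rw [← hfd]; exact hzc _ v
    have zz : ∀ v, act z (act z v) = v := fun v => by
      rw [← act_mul, hz, ← map_mul, dia_mul, dia_congr hF (a := -1 * -1) (b := 1) _ (by simp) (by ring),
        dia_one, map_one, act_one]
    have z0 : ∃ e : F, act z (bas 0) = e • bas 0 := by
      have hv : act M (act z (bas 0)) = a • act z (bas 0) := by rw [← hzM, hM0, act_smul]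
      refine ⟨(act z (bas 0)) 0, ?_⟩
      have v1 := comp _ _ ha hv 1 _ (norm_conj hF ha) hM1 (Ne.symm haqa)
      have v2 := comp _ _ ha hv 2 1 (by simp) (by rw [hM2, one_smul]) ha1
      funext i
      fin_cases i <;> simp [v1, v2]
    obtain ⟨e, he⟩ := z0
    obtain ⟨ε, hε⟩ : ∃ ε : F, act z (bas 2) = ε • bas 2 := ⟨_, fixed _ (by rw [← hzM, hM2])⟩
    set W := f (mk2 hF 0 (-1) (by rw [q_zero hF, q_neg hF, one_pow]; ring)) with hW
    set c := (act W (bas 0)) 1
    have hc0 : c ≠ 0 := fun e0 => by
      have h1 := h_act W (bas 0) (bas 0)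
      rw [hW0, e0, zero_smul, h_zero_left hF, h_bas_right _ _ hq0] at h1
      simp at h1
    have he1 : act z (bas 1) = e • bas 1 := by
      have h1 := hzc (mk2 hF 0 (-1) (by rw [q_zero hF, q_neg hF, one_pow]; ring)) (bas 0)
      rw [← hW, he, act_smul, hW0, act_smul, smul_smul, mul_comm, ← smul_smul] at h1
      exact smul_right_injective _ hc0 h1
    have hdiag : mat z = Matrix.diagonal ![e, e, ε] := by
      ext i j
      rw [mat_eq_act]
      fin_cases j <;> fin_cases i <;> simp [he, he1, hε, Matrix.diagonal]
    have hee : e * e = 1 := by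
      have h1 := zz (bas 0)
      rw [he, act_smul, he, smul_smul] at h1
      simpa using congrFun h1 0
    have hε1 : ε = 1 := by
      have h1 : (mat z).det = 1 := z.1.2
      rw [hdiag, Matrix.det_diagonal, Fin.prod_univ_three] at h1
      simp [hee] at h1
      exact h1
    have hem : e = -1 := by
      rcases mul_self_eq_one_iff.mp hee with h | h
      · exfalso
        have h1 : z = 1 := ext_mat (by rw [hdiag, mat_one, h, hε1]; ext i j; fin_cases i <;> fin_cases j <;> simp)
        have h3 := hf (h1.trans (map_one f).symm)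
        have h4 := congrArg (fun g => mat g 0 0) h3
        simp [dia, mat_mk2, mat_one] at h4
        exact h2 (by linear_combination -h4)
      · exact h
    have hfix : ∀ v : Fin 3 → F, act z v = v → v = v 2 • bas 2 := by
      intro v hv
      have hk : ∀ j : Fin 3, act z (bas j) = (-1 : F) • bas j → v j = 0 := fun j hj => by
        have h1 := h_act z v (bas j)
        rw [hv, hj, herm_smul_right hF, h_bas_right _ _ hq0, q_neg hF, one_pow] at h1
        have h5 : 2 * v j = 0 := by linear_combination -h1
        exact (mul_eq_zero.mp h5).resolve_left h2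
      funext i
      fin_cases i <;> simp [hk 0 (by rw [he, hem]), hk 1 (by rw [he1, hem])]
    have hχ : ∀ y, act (f y) (bas 2) = (act (f y) (bas 2)) 2 • bas 2 := fun y =>
      hfix _ (by rw [hzc, hε, hε1, one_smul])
    have hS : commutator (Cfsg.SU 2 F q) ≤ Subgroup.comap f
        { carrier := {g | act g (bas 2) = bas 2}
          one_mem' := by simp [act_one]
          mul_mem' := fun {x y} (hx : act x (bas 2) = bas 2) (hy : act y (bas 2) = bas 2) => by
            show act (x * y) (bas 2) = bas 2
            rw [act_mul, hy, hx]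
          inv_mem' := fun {x} (hx : act x (bas 2) = bas 2) => by
            show act x⁻¹ (bas 2) = bas 2
            conv_lhs => rw [← hx]
            rw [act_inv] } := by
      rw [commutator_def]
      refine Subgroup.commutator_le.mpr fun p _ r _ => ?_
      show act (f ⁅p, r⁆) (bas 2) = bas 2
      have sw : ∀ u w, act (f (u * w)) (bas 2) = act (f (w * u)) (bas 2) := fun u w => by
        rw [map_mul, map_mul, act_mul, act_mul, hχ w, act_smul, hχ u, act_smul, hχ w, smul_smul, smul_smul, mul_comm]
        simp
      rw [commutatorElement_def, show p * r * p⁻¹ * r⁻¹ = (p * r) * (r * p)⁻¹ by group, map_mul, act_mul,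
        hχ (r * p)⁻¹, act_smul, sw, ← act_smul, ← hχ (r * p)⁻¹, ← act_mul, ← map_mul, mul_inv_cancel, map_one, act_one]
    exact hS (su2_perfect hF hq ▸ Subgroup.mem_top x)

end Cfsg.Agent.Lib.Phan
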