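import Cfsg.Agent.Lib.Phan.Incl
import Cfsg.Agent.Lib.UnitaryMax.FrameEq

/-!
Geometry of orthogonal unit vectors of a Hermitian space, and rigidity of its covers.
-/

set_option autoImplicit false
set_option linter.unusedSectionVars false

namespace Cfsg.Agent.Lib.Phan

open Matrix Cfsg.Agent.Lib.Forms Cfsg.Agent.Lib.UnitaryMax Polynomial

variable {F : Type*} [Field F] [Fintype F] {q N : ℕ}

local notation "h" => Cfsg.hermForm N F q
local notation "Vs" => (Fin N → F)

theorem herm_sum_smul_left (hF : Fintype.card F = q ^ 2) {k : ℕ} (c : Fin k → F) (v : Fin k → Vs) (w : Vs) :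
    h (∑ i, c i • v i) w = ∑ i, c i * h (v i) w := by
  let L : Vs →+ F := AddMonoidHom.mk' (fun x => h x w) fun x y => herm_add_left hF x y w
  rw [show h (∑ i, c i • v i) w = L (∑ i, c i • v i) from rfl, map_sum]
  exact Finset.sum_congr rfl fun i _ => herm_smul_left hF _ _ _

/-- Rescaling an anisotropic vector to a unit vector. -/
theorem exists_scale (hF : Fintype.card F = q ^ 2) {y : Vs} (hy : h y y ≠ 0) :
    ∃ β : F, β ≠ 0 ∧ h (β • y) (β • y) = 1 := by
  obtain ⟨s, hs⟩ := UnitaryReg9.exists_norm hF (r := (h y y)⁻¹) (by rw [inv_pow, herm_conj hF])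
  refine ⟨s, fun e => ?_, ?_⟩
  · rw [e, zero_mul] at hs; exact inv_ne_zero hy hs.symm
  · rw [herm_smul_left hF, herm_smul_right hF, ← mul_assoc, hs, inv_mul_cancel₀ hy]

/-- A unit vector orthogonal to a nondegenerate short family. -/
theorem exists_gram (hF : Fintype.card F = q ^ 2) {k : ℕ} (v : Fin k → Vs) (hk : k < N)
    (hG : ∀ c : Fin k → F, (∀ j, ∑ i, c i * h (v i) (v j) = 0) → c = 0) :
    ∃ y : Vs, h y y = 1 ∧ ∀ j, h y (v j) = 0 := by
  let Φ : Vs →ₗ[F] (Fin k → F) :=
    { toFun := fun x j => h x (v j)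
      map_add' := fun x y => funext fun j => herm_add_left hF _ _ _
      map_smul' := fun c x => funext fun j => herm_smul_left hF _ _ _ }
  let M : (Fin k → F) →ₗ[F] (Fin k → F) := Φ.comp (Fintype.linearCombination F v)
  have hM : Function.Injective M := (injective_iff_map_eq_zero M).mpr fun c hc => hG c fun j => by
    have := congrFun hc j
    simpa [M, Φ, Fintype.linearCombination_apply, herm_sum_smul_left hF] using this
  have hMs : Function.Surjective M := LinearMap.injective_iff_surjective.mp hM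
  have hker : LinearMap.ker Φ ≠ ⊥ := by
    intro e
    have := LinearMap.finrank_le_finrank_of_injective (LinearMap.ker_eq_bot.mp e)
    simp only [Module.finrank_fintype_fun_eq_card, Fintype.card_fin] at this
    omega
  obtain ⟨y0, hy0, hy00⟩ := Submodule.exists_mem_ne_zero_of_ne_bot hker
  suffices hy : ∃ y ∈ LinearMap.ker Φ, h y y ≠ 0 by
    obtain ⟨y, hyK, hy⟩ := hy
    obtain ⟨β, -, hβ⟩ := exists_scale hF hy
    exact ⟨β • y, hβ, fun j => by
      rw [herm_smul_left hF, show h y (v j) = 0 from congrFun hyK j, mul_zero]⟩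
  by_contra hne
  push Not at hne
  obtain ⟨z, hz⟩ := exists_h_ne hF hy00
  obtain ⟨c, hc⟩ := hMs (Φ z)
  set w := z - Fintype.linearCombination F v c with hw
  have hwK : w ∈ LinearMap.ker Φ := by
    rw [LinearMap.mem_ker, hw, map_sub, sub_eq_zero]; exact hc.symm
  have hyv : h y0 (Fintype.linearCombination F v c) = 0 := by
    refine h_symm hF ?_
    rw [Fintype.linearCombination_apply, herm_sum_smul_left hF, Finset.sum_eq_zero]
    intro i _
    rw [h_symm hF (show h y0 (v i) = 0 from congrFun hy0 i), mul_zero]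
  have key : ∀ t : F, t * h y0 w + (t * h y0 w) ^ q = 0 := fun t => by
    have h1 := hne (t • y0 + w) (Submodule.add_mem _ (Submodule.smul_mem _ _ hy0) hwK)
    simp only [herm_add_left hF, herm_add_right hF, herm_smul_left hF, herm_smul_right hF, hne y0 hy0, hne w hwK,
      mul_zero, zero_add, add_zero] at h1
    rw [mul_pow, herm_conj hF]
    exact h1
  have hwz : h y0 w = h y0 z := by rw [hw, h_sub_right hF, hyv, sub_zero]
  obtain ⟨τ, hτ⟩ := exists_trace_one hF
  have := key (τ / h y0 w)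
  rw [div_mul_cancel₀ _ (hwz ▸ hz), hτ] at this
  exact one_ne_zero this

/-- A vector with prescribed values against a vector outside a span. -/
theorem exists_dual (hF : Fintype.card F = q ^ 2) {k : ℕ} (v : Fin k → Vs) (r : Vs)
    (hr : ∀ c : Fin k → F, r ≠ ∑ i, c i • v i) : ∃ x : Vs, (∀ j, h x (v j) = 0) ∧ h x r = 1 := by
  let L : Vs → (Vs →ₗ[F] F) := fun u =>
    { toFun := fun x => h x u
      map_add' := fun x y => herm_add_left hF _ _ _
      map_smul' := fun c x => herm_smul_left hF _ _ _ }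
  by_cases hx : ∃ x, (∀ j, h x (v j) = 0) ∧ h x r ≠ 0
  · obtain ⟨x, h1, h2⟩ := hx
    exact ⟨(h x r)⁻¹ • x, fun j => by rw [herm_smul_left hF, h1, mul_zero],
      by rw [herm_smul_left hF, inv_mul_cancel₀ h2]⟩
  push Not at hx
  have hle : (⨅ i, LinearMap.ker (L (v i))) ≤ LinearMap.ker (L r) := fun x hxm => by
    simp only [Submodule.mem_iInf, LinearMap.mem_ker] at hxm ⊢
    exact hx x hxm
  obtain ⟨c, hc⟩ := (Submodule.mem_span_range_iff_exists_fun F).mp (mem_span_of_iInf_ker_le_ker hle)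
  refine absurd ?_ (hr fun i => c i ^ q)
  funext l
  refine q_inj hF ?_
  have := LinearMap.congr_fun hc (bas l)
  simp only [LinearMap.sum_apply, LinearMap.smul_apply, smul_eq_mul] at this
  have e : ∀ u : Vs, L u (bas l) = u l ^ q := fun u => by
    show h (bas l) u = _
    rw [← herm_conj hF, h_bas_right _ _ (q_ne_zero hF)]
  simp only [e] at this
  rw [Finset.sum_apply, ← qPowHom_apply hF (∑ _, _), map_sum, ← this]
  exact Finset.sum_congr rfl fun i _ => by
    rw [qPowHom_apply, Pi.smul_apply, smul_eq_mul, mul_pow, pow_q_pow_q hF]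

/-- A unit vector orthogonal to a given anisotropic vector. -/
theorem exists_unit_one (hF : Fintype.card F = q ^ 2) (hN : 2 ≤ N) {a : Vs} (ha : h a a ≠ 0) :
    ∃ z : Vs, h z z = 1 ∧ h z a = 0 := by
  obtain ⟨z, hz, hz'⟩ := exists_gram hF (fun _ : Fin 1 => a) (by omega) fun c hc => by
    have := hc 0
    simp [ha] at this
    exact funext fun i => by rw [Fin.fin_one_eq_zero i]; exact this
  exact ⟨z, hz, hz' 0⟩

theorem exists_unit_triple (hF : Fintype.card F = q ^ 2) (hN : 4 ≤ N) {b c e : Vs} (hb : h b b = 1)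
    (hc : h c c = 1) (hbc : h b c = 0) (he : h e e - h e b * h e b ^ q - h e c * h e c ^ q ≠ 0) :
    ∃ y : Vs, h y y = 1 ∧ h y b = 0 ∧ h y c = 0 ∧ h y e = 0 := by
  obtain ⟨y, hy, hy'⟩ := exists_gram hF ![b, c, e] (by omega) fun u hu => by
    have h0 := hu 0
    have h1 := hu 1
    have h2 := hu 2
    simp [Fin.sum_univ_three, hb, hc, hbc, h_symm hF hbc] at h0 h1 h2
    rw [← herm_conj hF e b, ← herm_conj hF e c] at h2
    have h3 : u 2 * (h e e - h e b * h e b ^ q - h e c * h e c ^ q) = 0 := by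
      linear_combination h2 - (h e b ^ q) * h0 - (h e c ^ q) * h1
    have u2 : u 2 = 0 := (mul_eq_zero.mp h3).resolve_right he
    funext i
    fin_cases i <;> simp_all
  exact ⟨y, hy, hy' 0, hy' 1, hy' 2⟩

/-- The isotropic difference of two unit vectors with product one. -/
theorem diff_isotropic (hF : Fintype.card F = q ^ 2) {a c : Vs} (ha : h a a = 1) (hc : h c c = 1)
    (hac : h a c = 1) : h (c - a) (c - a) = 0 ∧ h (c - a) a = 0 ∧ h (c - a) c = 0 := by
  have hca : h c a = 1 := by rw [← herm_conj hF, hac, one_pow]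
  simp [h_sub_left hF, h_sub_right hF, ha, hc, hac, hca]

/-- A hyperbolic partner inside an orthogonal complement. -/
theorem exists_partner' (hF : Fintype.card F = q ^ 2) {k : ℕ} (v : Fin k → Vs) {r : Vs} (hr : h r r = 0)
    (hrv : ∀ j, h r (v j) = 0) (hout : ∀ c : Fin k → F, r ≠ ∑ i, c i • v i) :
    ∃ s : Vs, h s s = 0 ∧ h s r = 1 ∧ ∀ j, h s (v j) = 0 := by
  obtain ⟨s', h1, h2⟩ := exists_dual hF v r hout
  obtain ⟨τ, hτ⟩ := exists_trace_one hF
  have h3 : h r s' = 1 := by rw [← herm_conj hF, h2, one_pow]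
  refine ⟨s' + (-(h s' s' * τ)) • r, ?_, ?_, fun j => ?_⟩
  · simp only [herm_add_left hF, herm_add_right hF, herm_smul_left hF, herm_smul_right hF, hr, h2, h3, q_neg hF,
      mul_pow, herm_conj hF s' s']
    linear_combination (-(h s' s')) * hτ
  · rw [herm_add_left hF, herm_smul_left hF, h2, hr, mul_zero, add_zero]
  · rw [herm_add_left hF, herm_smul_left hF, h1 j, hrv j, mul_zero, add_zero]

theorem exists_unit_pair (hF : Fintype.card F = q ^ 2) (hN : 4 ≤ N) {a c : Vs} (ha : h a a = 1) (hc : h c c = 1) :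
    ∃ z : Vs, h z z = 1 ∧ h z a = 0 ∧ h z c = 0 := by
  by_cases hn : h a c * h a c ^ q = 1
  · have hδ : h a c ≠ 0 := fun e => by rw [e, zero_mul] at hn; exact zero_ne_one hn
    set γ := h a c with hγ
    have hc' : h (γ • c) (γ • c) = 1 := by
      rw [herm_smul_left hF, herm_smul_right hF, hc, mul_one, hn]
    have hac' : h a (γ • c) = 1 := by
      rw [herm_smul_right hF, ← hγ, mul_comm, hn]
    obtain ⟨r1, r2, -⟩ := diff_isotropic hF ha hc' hac'
    by_cases hr0 : γ • c - a = 0
    · obtain ⟨z, hz, hza⟩ := exists_unit_one hF (by omega) (a := a) (by rw [ha]; exact one_ne_zero)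
      refine ⟨z, hz, hza, ?_⟩
      rw [← sub_eq_zero.mp hr0, herm_smul_right hF] at hza
      exact (mul_eq_zero.mp hza).resolve_left (pow_ne_zero _ hδ)
    · obtain ⟨s, hs, hsr, hsa⟩ := exists_partner' hF (fun _ : Fin 1 => a) r1 (fun _ => r2) fun u e => by
        have := congrArg (fun x => h x a) e
        simp [herm_smul_left hF, ha, r2] at this
        exact hr0 (by simpa [← this] using e)
      have hsa' := hsa 0
      obtain ⟨z, hz, hz'⟩ := exists_gram hF ![a, γ • c - a, s] (by omega) fun u hu => by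
        have h0 := hu 0
        have h1 := hu 1
        have h2 := hu 2
        simp [Fin.sum_univ_three, ha, r1, r2, hs, hsr, hsa', h_symm hF r2, h_symm hF hsa',
          show h (γ • c - a) s = 1 by rw [← herm_conj hF, hsr, one_pow]] at h0 h1 h2
        funext i
        fin_cases i <;> simp_all
      refine ⟨z, hz, hz' 0, ?_⟩
      have h1 : h z (γ • c - a) = 0 := hz' 1
      rw [h_sub_right hF, show h z a = 0 from hz' 0, sub_zero, herm_smul_right hF] at h1
      exact (mul_eq_zero.mp h1).resolve_left (pow_ne_zero _ hδ)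
  · have hca : h c a = h a c ^ q := (herm_conj hF a c).symm
    obtain ⟨z, hz, hz'⟩ := exists_gram hF ![a, c] (by omega) fun u hu => by
      have h0 := hu 0
      have h1 := hu 1
      simp [Fin.sum_univ_two, ha, hc, hca] at h0 h1
      have h2 : u 1 * (1 - h a c * h a c ^ q) = 0 := by linear_combination h1 - h a c * h0
      have u1 : u 1 = 0 := (mul_eq_zero.mp h2).resolve_right (sub_ne_zero.mpr (Ne.symm hn))
      funext i
      fin_cases i <;> simp_all
    exact ⟨z, hz, hz' 0, hz' 1⟩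

/-- An element of the fixed field outside `{0, 1, 2}`. -/
theorem exists_fixed_ne (hF : Fintype.card F = q ^ 2) (hq : 3 < q) :
    ∃ τ : F, τ ^ q = τ ∧ τ ≠ 0 ∧ τ ≠ 1 ∧ τ ≠ 2 := by
  classical
  have hc : ({0, 1, 2} : Finset F).card < (fixedField q F).card := by
    rw [card_fixedField hF]
    exact lt_of_le_of_lt Finset.card_le_three hq
  obtain ⟨τ, h1, h2⟩ := Finset.exists_mem_notMem_of_card_lt_card hc
  simp only [Finset.mem_insert, Finset.mem_singleton, not_or] at h2
  exact ⟨τ, by simpa [fixedField] using h1, h2⟩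

/-- The subfield generated by the elements of norm one is everything. -/
theorem addSubgroup_eq_top (hF : Fintype.card F = q ^ 2) (S : AddSubgroup F)
    (hS : ∀ D : F, D * D ^ q = 1 → D ∈ S) (x : F) : x ∈ S := by
  classical
  let M : Submonoid F :=
    { carrier := {D | D * D ^ q = 1}
      mul_mem' := fun {a b} (ha : a * a ^ q = 1) (hb : b * b ^ q = 1) => by
        show a * b * (a * b) ^ q = 1
        rw [mul_pow, mul_mul_mul_comm, ha, hb, one_mul]
      one_mem' := by simp }
  set R := Subring.closure (M : Set F) with hR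
  have hRS : ∀ y ∈ R, y ∈ S := fun y hy => by
    rw [Subring.mem_closure_iff, Submonoid.closure_eq] at hy
    exact (AddSubgroup.closure_le _).mpr hS hy
  refine hRS x ?_
  letI : Fintype R := Fintype.ofFinite R
  letI : Field R := Fintype.fieldOfDomain R
  have hp := Module.card_eq_pow_finrank (K := R) (V := F)
  have hq2 := two_le_of_card_sq hF
  have hne : (Finset.univ.filter fun y : F => y ∈ R) ⊇ insert 0 (normOne q F) := by
    intro y hy
    rw [Finset.mem_filter]
    refine ⟨Finset.mem_univ _, ?_⟩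
    rcases Finset.mem_insert.mp hy with rfl | hy
    · exact R.zero_mem
    · refine Subring.subset_closure ?_
      show y * y ^ q = 1
      simpa [normOne] using hy
  have hcard := Finset.card_le_card hne
  rw [Finset.card_insert_of_notMem (fun e => normOne_ne_zero hF e rfl), card_normOne hF] at hcard
  have hR' : Fintype.card R = (Finset.univ.filter fun y : F => y ∈ R).card := Fintype.card_subtype _
  rw [hF] at hp
  have hm : Module.finrank R F < 2 := by
    by_contra hm
    push Not at hm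
    have : (q + 2) ^ 2 ≤ q ^ 2 :=
      calc (q + 2) ^ 2 ≤ Fintype.card R ^ 2 := by gcongr; omega
        _ ≤ Fintype.card R ^ Module.finrank R F := Nat.pow_le_pow_right (Fintype.card_pos) hm
        _ = q ^ 2 := hp.symm
    nlinarith
  have htop : (Finset.univ.filter fun y : F => y ∈ R) = Finset.univ := by
    refine Finset.eq_univ_of_card _ ?_
    rw [← hR', hF, hp]
    interval_cases hd : Module.finrank R F
    · exact absurd Module.finrank_pos (by rw [hd]; omega)
    · rw [pow_one]
  exact (Finset.mem_filter.mp (htop ▸ Finset.mem_univ x)).2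

/-- A cover of the graph of orthogonal unit vectors. -/
structure Cov (q N : ℕ) (F : Type*) [Field F] (C : Type*) where
  Adj : C → C → Prop
  Over : C → (Fin N → F) → Prop
  symm : ∀ {X Y}, Adj X Y → Adj Y X
  exists_over : ∀ X, ∃ v, Over X v
  over_unit : ∀ {X v}, Over X v → Cfsg.hermForm N F q v v = 1
  over_phase : ∀ {X v} (c : F), Over X v → c * c ^ q = 1 → Over X (c • v)
  adj_orth : ∀ {X Y a b}, Adj X Y → Over X a → Over Y b → Cfsg.hermForm N F q a b = 0
  lift : ∀ {X a b}, Over X a → Cfsg.hermForm N F q b b = 1 → Cfsg.hermForm N F q a b = 0 →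
    ∃ Y, Adj X Y ∧ Over Y b
  unique : ∀ {X Y Y' b}, Adj X Y → Adj X Y' → Over Y b → Over Y' b → Y = Y'
  tri : ∀ {X Y Z a c}, Adj X Y → Adj Y Z → Over X a → Over Z c → Cfsg.hermForm N F q a c = 0 → Adj X Z
  good : ∀ {X Y Y' Z Z' a c}, Over X a → Over Z c → Over Z' c →
    Cfsg.hermForm N F q a c * Cfsg.hermForm N F q a c ^ q ≠ 1 → Adj X Y → Adj Y Z → Adj X Y' → Adj Y' Z' →
    Z = Z'

variable {C : Type*} (K : Cov q N F C)

/-- The square argument through an auxiliary vertex. -/
theorem Cov.square_core (hF : Fintype.card F = q ^ 2) (hq : 3 < q) (hN : 4 ≤ N) {X Y T Z Z' : C} {a b c d s : Vs}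
    (oa : K.Over X a) (ob : K.Over Y b) (od : K.Over T d) (oc : K.Over Z c) (oc' : K.Over Z' c)
    (hXY : K.Adj X Y) (hYZ : K.Adj Y Z) (hXT : K.Adj X T) (hTZ : K.Adj T Z')
    (hac : h a c = 1) (hbd : h b d = 1) (hs : h s s = 0) (hsr : h s (c - a) = 1) (hsa : h s a = 0)
    (hsb : h s b = 0) (hg : h s (d - b) * h s (d - b) ^ q = 0 ∨ h s (d - b) * h s (d - b) ^ q = 1) : Z = Z' := by
  have ha := K.over_unit oa
  have hb := K.over_unit ob
  have hc := K.over_unit oc
  have hd := K.over_unit od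
  obtain ⟨r1, r2, r3⟩ := diff_isotropic hF ha hc hac
  have hab : h a b = 0 := K.adj_orth hXY oa ob
  have hbc : h b c = 0 := K.adj_orth hYZ ob oc
  have had : h a d = 0 := K.adj_orth hXT oa od
  have hdc : h d c = 0 := K.adj_orth hTZ od oc'
  set r := c - a with hr
  set δ := h s (d - b) with hδ
  have rb : h r b = 0 := by rw [hr, h_sub_left hF, h_symm hF hbc, hab, sub_zero]
  have rd : h r d = 0 := by rw [hr, h_sub_left hF, h_symm hF hdc, had, sub_zero]
  obtain ⟨τ, hτq, hτ0, hτ1, hτ2⟩ := exists_fixed_ne hF hq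
  obtain ⟨τ1, hτ1'⟩ := exists_trace_one hF
  set σ := τ * τ1 with hσ
  have hσt : σ + σ ^ q = τ := by rw [hσ, mul_pow, hτq, ← mul_add, hτ1', mul_one]
  have hσ0 : σ ≠ 0 := fun e => hτ0 (by rw [← hσt, e, q_zero hF, add_zero])
  set t := σ⁻¹ with ht
  have ht0 : t ≠ 0 := inv_ne_zero hσ0
  have htt : t + t ^ q = τ * (t * t ^ q) := by
    rw [ht, inv_pow, ← hσt]
    have := pow_ne_zero q hσ0
    field_simp
    ring
  set y := r + t • s with hy
  have hrs : h r s = 1 := by rw [← herm_conj hF, hsr, one_pow]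
  have hyy : h y y = τ * (t * t ^ q) := by
    rw [← htt]
    simp [hy, herm_add_left hF, herm_add_right hF, herm_smul_left hF, herm_smul_right hF, r1, hrs, hsr, hs]
    ring
  have hya : h y a = 0 := by simp [hy, herm_add_left hF, herm_smul_left hF, r2, hsa]
  have hyb : h y b = 0 := by simp [hy, herm_add_left hF, herm_smul_left hF, rb, hsb]
  have hsc : h s c = 1 := by rw [← hsr, hr, h_sub_right hF, hsa, sub_zero]
  have hyc : h y c = t := by simp [hy, herm_add_left hF, herm_smul_left hF, r3, hsc]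
  have hyd : h y d = t * δ := by
    simp [hy, herm_add_left hF, herm_smul_left hF, rd, hδ, h_sub_right hF, hsb]
  have hn0 : t * t ^ q ≠ 0 := mul_ne_zero ht0 (pow_ne_zero _ ht0)
  obtain ⟨β, hβ0, hβ⟩ := exists_scale hF (y := y) (by rw [hyy]; exact mul_ne_zero hτ0 hn0)
  set x := β • y with hx
  have hxa : h x a = 0 := by rw [hx, herm_smul_left hF, hya, mul_zero]
  have hxb : h x b = 0 := by rw [hx, herm_smul_left hF, hyb, mul_zero]
  have hxn : β * β ^ q * (τ * (t * t ^ q)) = 1 := by
    rw [← hyy, mul_assoc, ← herm_smul_right hF, ← herm_smul_left hF]; exact hβ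
  have hxc : h x c * h x c ^ q * τ = 1 := by
    rw [hx, herm_smul_left hF, hyc, mul_pow, ← hxn]; ring
  have hxd : h x d * h x d ^ q * τ = δ * δ ^ q := by
    rw [hx, herm_smul_left hF, hyd, mul_pow, mul_pow]
    linear_combination (δ * δ ^ q) * hxn
  have hxc1 : h x c * h x c ^ q ≠ 1 := fun e => hτ1 (by rw [e, one_mul] at hxc; exact hxc)
  have hxd1 : h x d * h x d ^ q ≠ 1 := fun e => by
    rw [e, one_mul] at hxd
    rcases hg with hg | hg <;> rw [hg] at hxd
    · exact hτ0 hxd
    · exact hτ1 hxd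
  have hsum : h x x - h x c * h x c ^ q - h x d * h x d ^ q ≠ 0 := fun e => by
    rw [hβ] at e
    have e' : τ = 1 + δ * δ ^ q := by linear_combination τ * e + hxc + hxd
    rcases hg with hg | hg <;> rw [hg] at e'
    · exact hτ1 (by rw [e', add_zero])
    · exact hτ2 (by rw [e']; norm_num)
  obtain ⟨z, hz, hzc, hzd, hzx⟩ := exists_unit_triple hF hN hc hd (h_symm hF hdc) hsum
  obtain ⟨X1, hX1, ox⟩ := K.lift oa hβ (h_symm hF hxa)
  have hX1Y : K.Adj X1 Y := K.tri (K.symm hX1) hXY ox ob hxb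
  obtain ⟨W, hW, oz⟩ := K.lift ox hz (h_symm hF hzx)
  obtain ⟨T', hT', od'⟩ := K.lift oz hd hzd
  obtain ⟨Z1, hZ1, oc1⟩ := K.lift oz hc hzc
  have eT : T = T' := K.good ox od od' hxd1 (K.symm hX1) hXT hW hT'
  have eZ : Z = Z1 := K.good ox oc oc1 hxc1 hX1Y hYZ hW hZ1
  subst eT eZ
  exact K.unique (K.tri (K.symm hT') hZ1 od oc hdc) hTZ oc oc'

/-- The relation given by a shift along an isotropic vector. -/
def Cov.Shift (X : C) (c r : Vs) (D : F) : Prop :=
  ∀ (b : Vs) (Y T Z Z' : C), K.Adj X Y → K.Adj Y Z → K.Adj X T → K.Adj T Z' → K.Over Y b →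
    K.Over T (b + D • r) → K.Over Z c → K.Over Z' c → Z = Z'

theorem Cov.shift_all (hF : Fintype.card F = q ^ 2) (hq : 3 < q) (hN : 4 ≤ N) {X : C} {a c : Vs}
    (oa : K.Over X a) (hc : h c c = 1) (hac : h a c = 1) (hr0 : c - a ≠ 0) (D : F) : K.Shift X c (c - a) D := by
  have ha := K.over_unit oa
  obtain ⟨r1, r2, r3⟩ := diff_isotropic hF ha hc hac
  set r := c - a with hr
  have har : h a r = 0 := h_symm hF r2
  have hrc : h r c = 0 := r3
  have facts : ∀ (b : Vs) (Y Z : C), K.Adj X Y → K.Adj Y Z → K.Over Y b → K.Over Z c →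
      h a b = 0 ∧ h b c = 0 ∧ h b r = 0 ∧ h b b = 1 := fun b Y Z h1 h2 ob oc => by
    refine ⟨K.adj_orth h1 oa ob, K.adj_orth h2 ob oc, ?_, K.over_unit ob⟩
    rw [hr, h_sub_right hF, K.adj_orth h2 ob oc, h_symm hF (K.adj_orth h1 oa ob), sub_zero]
  have mid : ∀ (b : Vs) (Y Z : C) (E : F), K.Adj X Y → K.Adj Y Z → K.Over Y b → K.Over Z c →
      ∃ T Z', K.Adj X T ∧ K.Adj T Z' ∧ K.Over T (b + E • r) ∧ K.Over Z' c := by
    intro b Y Z E h1 h2 ob oc
    obtain ⟨f1, f2, f3, f4⟩ := facts b Y Z h1 h2 ob oc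
    have e1 : h (b + E • r) (b + E • r) = 1 := by
      simp [herm_add_left hF, herm_add_right hF, herm_smul_left hF, herm_smul_right hF, r1, f3, h_symm hF f3, f4]
    have e2 : h a (b + E • r) = 0 := by simp [herm_add_right hF, herm_smul_right hF, f1, har]
    have e3 : h (b + E • r) c = 0 := by simp [herm_add_left hF, herm_smul_left hF, f2, hrc]
    obtain ⟨T, hT, oT⟩ := K.lift oa e1 e2
    obtain ⟨Z', hZ', oZ'⟩ := K.lift oT hc e3
    exact ⟨T, Z', hT, hZ', oT, oZ'⟩
  let S : AddSubgroup F :=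
    { carrier := {E | K.Shift X c r E}
      zero_mem' := fun b Y T Z Z' h1 h2 h3 h4 ob oT oc oc' => by
        rw [zero_smul, add_zero] at oT
        obtain rfl := K.unique h1 h3 ob oT
        exact K.unique h2 h4 oc oc'
      add_mem' := fun {E E'} hE hE' b Y T Z Z' h1 h2 h3 h4 ob oT oc oc' => by
        obtain ⟨T1, Z1, g1, g2, oT1, oZ1⟩ := mid b Y Z E h1 h2 ob oc
        rw [add_smul, ← add_assoc] at oT
        exact (hE b Y T1 Z Z1 h1 h2 g1 g2 ob oT1 oc oZ1).trans
          (hE' _ T1 T Z1 Z' g1 g2 h3 h4 oT1 oT oZ1 oc')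
      neg_mem' := fun {E} hE b Y T Z Z' h1 h2 h3 h4 ob oT oc oc' =>
        (hE (b + -E • r) T Y Z' Z h3 h4 h1 h2 oT (by rw [neg_smul, neg_add_cancel_right]; exact ob) oc' oc).symm }
  refine addSubgroup_eq_top hF S (fun E hE b Y T Z Z' h1 h2 h3 h4 ob oT oc oc' => ?_) D
  obtain ⟨f1, f2, f3, f4⟩ := facts b Y Z h1 h2 ob oc
  have hbd : h b (b + E • r) = 1 := by simp [herm_add_right hF, herm_smul_right hF, f3, f4]
  obtain ⟨s, hs, hsr, hsv⟩ := exists_partner' hF ![a, b] r1
    (fun j => by fin_cases j <;> simp [r2, h_symm hF f3]) fun u e => by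
      have e1 := congrArg (fun x => h x a) e
      have e2 := congrArg (fun x => h x b) e
      simp [Fin.sum_univ_two, herm_add_left hF, herm_smul_left hF, ha, f4, r2, f1, h_symm hF f1, h_symm hF f3]
        at e1 e2
      exact hr0 (by simpa [Fin.sum_univ_two, ← e1, ← e2] using e)
  refine K.square_core hF hq hN oa ob oT oc oc' h1 h2 h3 h4 hac hbd hs hsr (hsv 0) (hsv 1) (Or.inr ?_)
  rw [add_sub_cancel_left, herm_smul_right hF, hsr, mul_one, pow_q_pow_q hF, mul_comm]
  exact hE

/-- Every four-cycle closes. -/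
theorem Cov.square (hF : Fintype.card F = q ^ 2) (hq : 3 < q) (hN : 4 ≤ N) {X Y T Z Z' : C} {c : Vs}
    (hXY : K.Adj X Y) (hYZ : K.Adj Y Z) (hXT : K.Adj X T) (hTZ : K.Adj T Z')
    (oc : K.Over Z c) (oc' : K.Over Z' c) : Z = Z' := by
  obtain ⟨a, oa⟩ := K.exists_over X
  obtain ⟨b, ob⟩ := K.exists_over Y
  obtain ⟨d, od⟩ := K.exists_over T
  by_cases hn : h a c * h a c ^ q = 1
  swap
  · exact K.good oa oc oc' hn hXY hYZ hXT hTZ
  by_cases hm : h b d * h b d ^ q = 1
  swap
  · have hdc : h d c = 0 := K.adj_orth hTZ od oc'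
    obtain ⟨T', hT', od'⟩ := K.lift oc (K.over_unit od) (h_symm hF hdc)
    obtain rfl := K.good ob od od' hm (K.symm hXY) hXT hYZ hT'
    exact K.unique (K.symm hT') hTZ oc oc'
  set γ := h a c with hγ
  set ε := h b d with hε
  have oc1 : K.Over Z (γ • c) := K.over_phase γ oc hn
  have oc1' : K.Over Z' (γ • c) := K.over_phase γ oc' hn
  have od1 : K.Over T (ε • d) := K.over_phase ε od hm
  have hac : h a (γ • c) = 1 := by rw [herm_smul_right hF, ← hγ, mul_comm, hn]
  have hbd : h b (ε • d) = 1 := by rw [herm_smul_right hF, ← hε, mul_comm, hm]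
  set c1 := γ • c
  set d1 := ε • d
  by_cases hr0 : c1 - a = 0
  · rw [sub_eq_zero.mp hr0] at oc1 oc1'
    exact (K.unique (K.symm hXY) hYZ oa oc1).symm.trans (K.unique (K.symm hXT) hTZ oa oc1')
  have ha := K.over_unit oa
  have hb := K.over_unit ob
  have hd := K.over_unit od1
  obtain ⟨r1, r2, r3⟩ := diff_isotropic hF ha (K.over_unit oc1) hac
  obtain ⟨r1', r2', r3'⟩ := diff_isotropic hF hb hd hbd
  have hab : h a b = 0 := K.adj_orth hXY oa ob
  have had : h a d1 = 0 := K.adj_orth hXT oa od1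
  have hbc : h b c1 = 0 := K.adj_orth hYZ ob oc1
  have hdc : h d1 c1 = 0 := K.adj_orth hTZ od1 oc1'
  by_cases hD : ∃ D : F, d1 - b = D • (c1 - a)
  · obtain ⟨D, hD⟩ := hD
    refine K.shift_all hF hq hN oa (K.over_unit oc1) hac hr0 D b Y T Z Z' hXY hYZ hXT hTZ ob ?_ oc1 oc1'
    rw [← hD, add_sub_cancel]
    exact od1
  push Not at hD
  set r := c1 - a with hr
  set r' := d1 - b with hr'
  have rb : h r b = 0 := by rw [hr, h_sub_left hF, h_symm hF hbc, hab, sub_zero]
  have r'a : h r' a = 0 := by rw [hr', h_sub_left hF, h_symm hF had, h_symm hF hab, sub_zero]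
  have rr' : h r r' = 0 := by
    rw [hr', h_sub_right hF, rb, hr, h_sub_left hF, h_symm hF hdc, had, sub_zero, sub_zero]
  obtain ⟨s, hs, hsr, hsv⟩ := exists_partner' hF ![a, b, r'] r1
    (fun j => by fin_cases j <;> simp [r2, rb, rr']) fun u e => by
      have e1 := congrArg (fun x => h x a) e
      have e2 := congrArg (fun x => h x b) e
      simp [Fin.sum_univ_three, herm_add_left hF, herm_smul_left hF, ha, hb, r2, rb, r'a, r2', hab, h_symm hF hab]
        at e1 e2
      have e3 : r = u 2 • r' := by simpa [Fin.sum_univ_three, ← e1, ← e2] using e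
      by_cases hu : u 2 = 0
      · exact hr0 (by rw [e3, hu, zero_smul])
      · exact hD (u 2)⁻¹ (by rw [e3, inv_smul_smul₀ hu])
  refine K.square_core hF hq hN oa ob od1 oc1 oc1' hXY hYZ hXT hTZ hac hbd hs hsr (hsv 0) (hsv 1) (Or.inl ?_)
  have hs2 : h s r' = 0 := hsv 2
  rw [hr'] at hs2
  rw [hs2, zero_mul]

/-- Two conjugate-symmetric forms on a line of a projective line share an anisotropic point. -/
theorem exists_common (hF : Fintype.card F = q ^ 2) (hq : 3 < q) (A B B' E A' G G' E' : F)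
    (hA : A ≠ 0) (hE' : E' ≠ 0) :
    ∃ t : F, A + B * t + B' * t ^ q + E * t ^ (q + 1) ≠ 0 ∧ A' + G * t + G' * t ^ q + E' * t ^ (q + 1) ≠ 0 := by
  let p : F → F → F → F → F[X] := fun a b b' e =>
    Polynomial.C a + Polynomial.C b * X + Polynomial.C b' * X ^ q + Polynomial.C e * X ^ (q + 1)
  have hdeg : ∀ a b b' e, (p a b b' e).natDegree ≤ q + 1 := fun a b b' e => by
    simp only [p]
    compute_degree
    all_goals omega
  have h1 : p A B B' E ≠ 0 := fun e0 => hA (by
    have := congrArg (fun P : F[X] => P.coeff 0) e0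
    simpa [p, Polynomial.coeff_X_pow, show ¬ (0 = q) by omega] using this)
  have h2 : p A' G G' E' ≠ 0 := fun e0 => hE' (by
    have := congrArg (fun P : F[X] => P.coeff (q + 1)) e0
    simpa [p, Polynomial.coeff_X_pow, Polynomial.coeff_X, show ¬ (q = 0) by omega,
      Polynomial.coeff_C] using this)
  by_contra hne
  push Not at hne
  refine mul_ne_zero h1 h2 (Polynomial.eq_zero_of_natDegree_lt_card_of_eval_eq_zero _
    Function.injective_id (fun t => ?_) ?_)
  · rw [Polynomial.eval_mul]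
    by_cases ht : A + B * t + B' * t ^ q + E * t ^ (q + 1) = 0
    · simp [p, ht]
    · simp [p, hne t ht]
  · refine lt_of_le_of_lt (Polynomial.natDegree_mul_le.trans (add_le_add (hdeg _ _ _ _) (hdeg _ _ _ _))) ?_
    rw [hF]
    nlinarith

/-- A neighbour of a vertex at distance at most two is at distance at most two. -/
theorem Cov.two_step_closed (hF : Fintype.card F = q ^ 2) (hq : 3 < q) (hN : 4 ≤ N) {X Y Z T : C}
    (hXY : K.Adj X Y) (hYZ : K.Adj Y Z) (hZT : K.Adj Z T) : ∃ V, K.Adj X V ∧ K.Adj V T := by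
  obtain ⟨a, oa⟩ := K.exists_over X
  obtain ⟨b, ob⟩ := K.exists_over Y
  obtain ⟨c, oc⟩ := K.exists_over Z
  obtain ⟨d, od⟩ := K.exists_over T
  have ha := K.over_unit oa
  have hb := K.over_unit ob
  have hc := K.over_unit oc
  have hd := K.over_unit od
  by_cases hac : h a c = 0
  · exact ⟨Z, K.tri hXY hYZ oa oc hac, hZT⟩
  by_cases hbd : h b d = 0
  · exact ⟨Y, hXY, K.tri hYZ hZT ob od hbd⟩
  have hbc : h b c = 0 := K.adj_orth hYZ ob oc
  have hca : h c a ≠ 0 := fun e => hac (h_symm hF e)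
  obtain ⟨e1, he1, he1a, he1d⟩ := exists_unit_pair hF hN ha hd
  obtain ⟨w, hw, hwb, hwc⟩ := exists_unit_pair hF hN hb hc
  set β := -h w d / h b d with hβ
  set γ := -h w a / h c a with hγ
  set e0 := w + β • b + γ • c with he0
  have hba : h b a = 0 := h_symm hF (K.adj_orth hXY oa ob)
  have hcd : h c d = 0 := K.adj_orth hZT oc od
  have he0a : h e0 a = 0 := by
    simp only [he0, hγ, herm_add_left hF, herm_smul_left hF, hba, mul_zero, add_zero, div_mul_cancel₀ _ hca,
      add_neg_cancel]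
  have he0d : h e0 d = 0 := by
    simp only [he0, hβ, herm_add_left hF, herm_smul_left hF, hcd, mul_zero, add_zero, div_mul_cancel₀ _ hbd,
      add_neg_cancel]
  have he0f : h e0 e0 - h e0 b * h e0 b ^ q - h e0 c * h e0 c ^ q = 1 := by
    simp [he0, herm_add_left hF, herm_add_right hF, herm_smul_left hF, herm_smul_right hF, hw, hwb, hwc, hb, hc,
      hbc, h_symm hF hwb, h_symm hF hwc, h_symm hF hbc]
    ring
  obtain ⟨t, ht1, ht2⟩ := exists_common hF hq (h e1 e1) (h e0 e1) (h e1 e0) (h e0 e0)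
    (h e1 e1 - h e1 b * h e1 b ^ q - h e1 c * h e1 c ^ q)
    (h e0 e1 - h e0 b * h e1 b ^ q - h e0 c * h e1 c ^ q)
    (h e1 e0 - h e1 b * h e0 b ^ q - h e1 c * h e0 c ^ q)
    (h e0 e0 - h e0 b * h e0 b ^ q - h e0 c * h e0 c ^ q)
    (by rw [he1]; exact one_ne_zero) (by rw [he0f]; exact one_ne_zero)
  set u := e1 + t • e0 with hu
  have hua : h u a = 0 := by simp [hu, herm_add_left hF, herm_smul_left hF, he1a, he0a]
  have hud : h u d = 0 := by simp [hu, herm_add_left hF, herm_smul_left hF, he1d, he0d]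
  have huu : h u u ≠ 0 := fun e => ht1 (by
    have e2 : h u u = h e1 e1 + h e0 e1 * t + h e1 e0 * t ^ q + h e0 e0 * t ^ (q + 1) := by
      rw [hu]
      clear_value e0
      simp only [herm_add_left hF, herm_add_right hF, herm_smul_left hF, herm_smul_right hF]
      ring
    rw [← e, e2])
  have huf : h u u - h u b * h u b ^ q - h u c * h u c ^ q ≠ 0 := fun e => ht2 (by
    rw [← e]
    clear_value e0
    simp only [hu, herm_add_left hF, herm_add_right hF, herm_smul_left hF, herm_smul_right hF, q_add hF, mul_pow]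
    ring)
  obtain ⟨s, hs0, hs⟩ := exists_scale hF huu
  set e := s • u with he
  have hef : h e e - h e b * h e b ^ q - h e c * h e c ^ q ≠ 0 := by
    have : h e e - h e b * h e b ^ q - h e c * h e c ^ q =
        s * s ^ q * (h u u - h u b * h u b ^ q - h u c * h u c ^ q) := by
      simp only [he, herm_smul_left hF, herm_smul_right hF, mul_pow]
      ring
    rw [this]
    exact mul_ne_zero (mul_ne_zero hs0 (pow_ne_zero _ hs0)) huf
  have hea : h e a = 0 := by rw [he, herm_smul_left hF, hua, mul_zero]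
  have hed : h e d = 0 := by rw [he, herm_smul_left hF, hud, mul_zero]
  obtain ⟨y, hy, hyb, hyc, hye⟩ := exists_unit_triple hF hN hb hc hbc hef
  obtain ⟨Vy, hVy, oy⟩ := K.lift ob hy (h_symm hF hyb)
  have hVyZ : K.Adj Vy Z := K.tri (K.symm hVy) hYZ oy oc hyc
  obtain ⟨V, hV, oV⟩ := K.lift oy hs hye
  obtain ⟨X', hX', oa'⟩ := K.lift oV ha hea
  obtain ⟨T', hT', od'⟩ := K.lift oV hd hed
  obtain rfl : X = X' := K.square hF hq hN (K.symm hVy) (K.symm hXY) hV hX' oa oa'
  obtain rfl : T = T' := K.square hF hq hN hVyZ hZT hV hT' od od'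
  exact ⟨V, K.symm hX', hT'⟩

/-- A connected cover is trivial over the base vertex. -/
theorem Cov.eq_base (hF : Fintype.card F = q ^ 2) (hq : 3 < q) (hN : 4 ≤ N) {X₀ X : C} {v : Vs}
    (hconn : Relation.ReflTransGen K.Adj X₀ X) (o₀ : K.Over X₀ v) (o : K.Over X v) : X = X₀ := by
  have key : ∃ Y, K.Adj X₀ Y ∧ K.Adj Y X := by
    clear o
    induction hconn with
    | refl =>
      obtain ⟨z, hz, hzv⟩ := exists_unit_one hF (by omega) (a := v)
        (by rw [K.over_unit o₀]; exact one_ne_zero)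
      obtain ⟨Y, hY, -⟩ := K.lift o₀ hz (h_symm hF hzv)
      exact ⟨Y, hY, K.symm hY⟩
    | tail _ hst ih =>
      obtain ⟨Y, h1, h2⟩ := ih
      exact K.two_step_closed hF hq hN h1 h2 hst
  obtain ⟨Y, h1, h2⟩ := key
  exact K.unique h2 (K.symm h1) o o₀

end Cfsg.Agent.Lib.Phan
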