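import Cfsg.Prelude.Def_PhanSystems
import Cfsg.Agent.Lib.UnitaryReg9.Witt

/-!
Block embeddings of special unitary groups along injective maps of coordinates.
-/

set_option autoImplicit false

namespace Cfsg.Agent.Lib.Phan

open Matrix Cfsg.Agent.Lib.Forms Cfsg.Agent.Lib.UnitaryMax

variable {F : Type*} [Field F] [Fintype F] {q k l N : ℕ}

/-- The matrix of an element of `SU`. -/
def mat (g : Cfsg.SU N F q) : Matrix (Fin N) (Fin N) F := g.1.1

/-- The action on column vectors. -/
def act (g : Cfsg.SU N F q) (v : Fin N → F) : Fin N → F := mat g *ᵥ v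

omit [Fintype F] in
theorem mat_mul (g g' : Cfsg.SU N F q) : mat (g * g') = mat g * mat g' := rfl

omit [Fintype F] in
theorem mat_one : mat (1 : Cfsg.SU N F q) = 1 := rfl

omit [Fintype F] in
theorem ext_mat {g g' : Cfsg.SU N F q} (h : mat g = mat g') : g = g' := Subtype.ext (Subtype.ext h)

omit [Fintype F] in
theorem act_mul (g g' : Cfsg.SU N F q) (v : Fin N → F) : act (g * g') v = act g (act g' v) := by
  rw [act, act, act, mat_mul, mulVec_mulVec]

omit [Fintype F] in
theorem act_one (v : Fin N → F) : act (1 : Cfsg.SU N F q) v = v := by rw [act, mat_one, one_mulVec]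

omit [Fintype F] in
theorem act_inv (g : Cfsg.SU N F q) (v : Fin N → F) : act g⁻¹ (act g v) = v := by
  rw [← act_mul, inv_mul_cancel, act_one]

omit [Fintype F] in
theorem act_inv' (g : Cfsg.SU N F q) (v : Fin N → F) : act g (act g⁻¹ v) = v := by
  rw [← act_mul, mul_inv_cancel, act_one]

omit [Fintype F] in
theorem act_smul (g : Cfsg.SU N F q) (c : F) (v : Fin N → F) : act g (c • v) = c • act g v :=
  mulVec_smul _ _ _

omit [Fintype F] in
theorem h_act (g : Cfsg.SU N F q) (u v : Fin N → F) :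
    Cfsg.hermForm N F q (act g u) (act g v) = Cfsg.hermForm N F q u v := g.2 u v

omit [Fintype F] in
theorem ext_act {g g' : Cfsg.SU N F q} (h : ∀ v, act g v = act g' v) : g = g' :=
  ext_mat (Matrix.ext_iff_mulVec.mpr h)

/-- A standard basis vector. -/
abbrev bas (i : Fin N) : Fin N → F := Pi.single i 1

omit [Fintype F] in
theorem h_bas_right (v : Fin N → F) (i : Fin N) (hq : q ≠ 0) : Cfsg.hermForm N F q v (bas i) = v i := by
  rw [Cfsg.hermForm, Finset.sum_eq_single i (fun j _ hj => by rw [bas, Pi.single_eq_of_ne hj, zero_pow hq, mul_zero])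
    (by simp)]
  simp

variable (F) in
/-- The inclusion of coordinates. -/
def P (f : Fin k → Fin N) : Matrix (Fin N) (Fin k) F := (1 : Matrix (Fin N) (Fin N) F).submatrix id f

variable (F) in
/-- The projection to coordinates. -/
def R (f : Fin k → Fin N) : Matrix (Fin k) (Fin N) F := (1 : Matrix (Fin N) (Fin N) F).submatrix f id

omit [Fintype F] in
theorem R_mulVec (f : Fin k → Fin N) (v : Fin N → F) (a : Fin k) : (R F f *ᵥ v) a = v (f a) := by
  simp [R, Matrix.mulVec, dotProduct, Matrix.one_apply]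

omit [Fintype F] in
theorem R_mul_P {f : Fin k → Fin N} (hf : Function.Injective f) : (R F f : Matrix (Fin k) (Fin N) F) * P F f = 1 := by
  rw [R, P, ← submatrix_mul _ _ _ _ _ Function.bijective_id, one_mul, submatrix_one f hf]

omit [Fintype F] in
theorem RP_vec {f : Fin k → Fin N} (hf : Function.Injective f) (x : Fin k → F) : R F f *ᵥ (P F f *ᵥ x) = x := by
  rw [mulVec_mulVec, R_mul_P hf, one_mulVec]

omit [Fintype F] in
theorem P_mulVec_off {f : Fin k → Fin N} (x : Fin k → F) {i : Fin N} (hi : ∀ a, f a ≠ i) : (P F f *ᵥ x) i = 0 := by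
  simp [P, Matrix.mulVec, dotProduct, Matrix.one_apply, fun a => Ne.symm (hi a)]

omit [Fintype F] in
theorem P_bas (f : Fin k → Fin N) (a : Fin k) : (P F f *ᵥ bas a : Fin N → F) = bas (f a) := by
  funext i
  rw [bas, Matrix.mulVec_single_one]
  simp [P, Matrix.one_apply, Pi.single_apply]

omit [Fintype F] in
theorem P_comp (f : Fin k → Fin N) (g : Fin l → Fin k) : (P F (f ∘ g) : Matrix (Fin N) (Fin l) F) = P F f * P F g := by
  ext i b
  simp [P, Matrix.mul_apply, Matrix.one_apply]

omit [Fintype F] in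
theorem R_comp (f : Fin k → Fin N) (g : Fin l → Fin k) : (R F (f ∘ g) : Matrix (Fin l) (Fin N) F) = R F g * R F f := by
  ext b i
  rw [Matrix.mul_apply, Finset.sum_eq_single (g b)]
  · simp [R, Matrix.one_apply]
  · intro j _ hj; simp [R, Matrix.one_apply, Ne.symm hj]
  · simp

omit [Fintype F] in
theorem R_mul_P_disjoint {f : Fin k → Fin N} {g : Fin l → Fin N} (h : ∀ a b, f a ≠ g b) :
    (R F f : Matrix (Fin k) (Fin N) F) * P F g = 0 := by
  ext a b
  simp [R, P, Matrix.mul_apply, Matrix.one_apply, h a b]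

omit [Fintype F] in
theorem h_P_left (f : Fin k → Fin N) (x : Fin k → F) (v : Fin N → F) :
    Cfsg.hermForm N F q (P F f *ᵥ x) v = Cfsg.hermForm k F q x (R F f *ᵥ v) := by
  rw [← conjVec_dotProduct, ← conjVec_dotProduct, dotProduct_mulVec]
  congr 1
  funext a
  simp [conjVec, R_mulVec, P, Matrix.vecMul, dotProduct, Matrix.one_apply]

theorem h_P_right (hF : Fintype.card F = q ^ 2) (f : Fin k → Fin N) (x : Fin k → F) (v : Fin N → F) :
    Cfsg.hermForm N F q v (P F f *ᵥ x) = Cfsg.hermForm k F q (R F f *ᵥ v) x := by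
  rw [← herm_conj hF, h_P_left, herm_conj hF]

/-- The block matrix. -/
def incMat (f : Fin k → Fin N) (A : Matrix (Fin k) (Fin k) F) : Matrix (Fin N) (Fin N) F :=
  1 + P F f * (A - 1) * R F f

omit [Fintype F] in
theorem incMat_mulVec (f : Fin k → Fin N) (A : Matrix (Fin k) (Fin k) F) (v : Fin N → F) :
    incMat f A *ᵥ v = v + P F f *ᵥ (A *ᵥ (R F f *ᵥ v) - R F f *ᵥ v) := by
  rw [incMat, add_mulVec, one_mulVec, ← mulVec_mulVec, ← mulVec_mulVec, sub_mulVec, one_mulVec]

omit [Fintype F] in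
theorem det_incMat {f : Fin k → Fin N} (hf : Function.Injective f) (A : Matrix (Fin k) (Fin k) F) :
    (incMat f A).det = A.det := by
  rw [incMat, det_one_add_mul_comm, ← Matrix.mul_assoc, R_mul_P hf, Matrix.one_mul, add_sub_cancel]

theorem incMat_preserves (hF : Fintype.card F = q ^ 2) {f : Fin k → Fin N} (hf : Function.Injective f)
    (g : Cfsg.SU k F q) (u v : Fin N → F) :
    Cfsg.hermForm N F q (incMat f (mat g) *ᵥ u) (incMat f (mat g) *ᵥ v) = Cfsg.hermForm N F q u v := by
  have hg := h_act g (R F f *ᵥ u) (R F f *ᵥ v)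
  rw [act, act] at hg
  simp only [incMat_mulVec, herm_add_left hF, herm_add_right hF, h_P_left, h_P_right hF, RP_vec hf, h_sub_left hF,
    h_sub_right hF]
  linear_combination hg

omit [Fintype F] in
theorem incMat_mul {f : Fin k → Fin N} (hf : Function.Injective f) (A B : Matrix (Fin k) (Fin k) F) :
    incMat f (A * B) = incMat f A * incMat f B := by
  refine Matrix.ext_iff_mulVec.mpr fun v => ?_
  rw [← mulVec_mulVec, incMat_mulVec, incMat_mulVec, incMat_mulVec, mulVec_add (R F f), RP_vec hf, add_assoc,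
    ← mulVec_add, add_sub_cancel, ← mulVec_mulVec]
  congr 2
  abel

/-- The block embedding along an injective map of coordinates. -/
noncomputable def inc (hF : Fintype.card F = q ^ 2) {f : Fin k → Fin N} (hf : Function.Injective f) :
    Cfsg.SU k F q →* Cfsg.SU N F q :=
  MonoidHom.mk' (fun g => suMk hF (incMat f (mat g)) (by rw [det_incMat hf]; exact g.1.2)
    (incMat_preserves hF hf g)) fun g g' => ext_mat (incMat_mul hf (mat g) (mat g'))

variable {hF : Fintype.card F = q ^ 2} {f : Fin k → Fin N} {hf : Function.Injective f}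

theorem mat_inc (g : Cfsg.SU k F q) : mat (inc hF hf g) = incMat f (mat g) := rfl

theorem act_inc (g : Cfsg.SU k F q) (v : Fin N → F) :
    act (inc hF hf g) v = v + P F f *ᵥ (act g (R F f *ᵥ v) - R F f *ᵥ v) := incMat_mulVec f _ v

theorem act_inc_P (g : Cfsg.SU k F q) (x : Fin k → F) :
    act (inc hF hf g) (P F f *ᵥ x) = P F f *ᵥ act g x := by
  rw [act_inc, RP_vec hf, mulVec_sub, add_sub_cancel]

theorem act_inc_bas (g : Cfsg.SU k F q) (a : Fin k) :
    act (inc hF hf g) (bas (f a)) = P F f *ᵥ act g (bas a) := by rw [← P_bas, act_inc_P]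

theorem act_inc_off (g : Cfsg.SU k F q) {i : Fin N} (hi : ∀ a, f a ≠ i) :
    act (inc hF hf g) (bas i) = bas i := by
  have : R F f *ᵥ (bas i : Fin N → F) = 0 := funext fun a => by
    rw [R_mulVec, bas, Pi.single_eq_of_ne (hi a)]; rfl
  rw [act_inc, this, act, mulVec_zero, sub_zero, mulVec_zero, add_zero]

theorem inc_injective : Function.Injective (inc hF hf) := fun g g' h => ext_act fun x => by
  have := congrArg (fun y => R F f *ᵥ act y (P F f *ᵥ x)) h
  simpa only [act_inc_P, RP_vec hf] using this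

theorem inc_inc {g : Fin l → Fin k} (hg : Function.Injective g) (x : Cfsg.SU l F q) :
    inc hF hf (inc hF hg x) = inc hF (hf.comp hg) x := by
  refine ext_act fun v => ?_
  rw [act_inc, act_inc, act_inc, add_sub_cancel_left, P_comp, R_comp, ← mulVec_mulVec, ← mulVec_mulVec]

theorem inc_congr {f' : Fin k → Fin N} (hf' : Function.Injective f') (e : f = f') (x : Cfsg.SU k F q) :
    inc hF hf x = inc hF hf' x := by subst e; rfl

theorem inc_comm {g : Fin l → Fin N} (hg : Function.Injective g) (h : ∀ a b, f a ≠ g b)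
    (x : Cfsg.SU k F q) (y : Cfsg.SU l F q) : inc hF hf x * inc hF hg y = inc hF hg y * inc hF hf x := by
  have h1 : ∀ z, R F f *ᵥ (P F g *ᵥ z) = (0 : Fin k → F) := fun z => by
    rw [mulVec_mulVec, R_mul_P_disjoint h, zero_mulVec]
  have h2 : ∀ z, R F g *ᵥ (P F f *ᵥ z) = (0 : Fin l → F) := fun z => by
    rw [mulVec_mulVec, R_mul_P_disjoint fun a b e => h b a e.symm, zero_mulVec]
  refine ext_act fun v => ?_
  simp only [act_mul, act_inc, mulVec_add, h1, h2, add_zero]
  abel

theorem mem_range_inc {g : Cfsg.SU N F q} (hg : ∀ i, (∀ a, f a ≠ i) → act g (bas i) = bas i) :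
    g ∈ (inc hF hf).range := by
  have hq : q ≠ 0 := q_ne_zero hF
  have key : ∀ x, act g (P F f *ᵥ x) = P F f *ᵥ (R F f *ᵥ act g (P F f *ᵥ x)) := by
    intro x
    funext i
    by_cases hi : ∃ a, f a = i
    · obtain ⟨a, rfl⟩ := hi
      rw [← R_mulVec f (P F f *ᵥ _), RP_vec hf, R_mulVec]
    · push Not at hi
      rw [P_mulVec_off _ hi, ← h_bas_right (act g (P F f *ᵥ x)) i hq, ← hg i hi, h_act, h_P_left]
      rw [show R F f *ᵥ (bas i : Fin N → F) = 0 from funext fun a => by
        rw [R_mulVec, bas, Pi.single_eq_of_ne (hi a)]; rfl, h_zero_right hF]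
  let A : Matrix (Fin k) (Fin k) F := R F f * mat g * P F f
  have hA : ∀ x, A *ᵥ x = R F f *ᵥ act g (P F f *ᵥ x) := fun x => by
    rw [act]; simp only [A, ← mulVec_mulVec]
  have heq : incMat f A = mat g := by
    refine Matrix.ext_iff_mulVec.mpr fun v => ?_
    have hoff : mat g *ᵥ (v - P F f *ᵥ (R F f *ᵥ v)) = v - P F f *ᵥ (R F f *ᵥ v) := by
      have hw : v - P F f *ᵥ (R F f *ᵥ v) = ∑ i, (v - P F f *ᵥ (R F f *ᵥ v)) i • (bas i : Fin N → F) := by
        funext j; simp [Finset.sum_apply, Pi.single_apply]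
      conv_lhs => rw [hw, mulVec_sum]
      conv_rhs => rw [hw]
      refine Finset.sum_congr rfl fun i _ => ?_
      rw [mulVec_smul]
      by_cases hi : ∃ a, f a = i
      · obtain ⟨a, rfl⟩ := hi
        rw [Pi.sub_apply, ← R_mulVec f (P F f *ᵥ _), RP_vec hf, R_mulVec, sub_self, zero_smul, zero_smul]
      · push Not at hi
        rw [← act, hg i hi]
    rw [incMat_mulVec, hA, mulVec_sub, ← key, act]
    rw [mulVec_sub] at hoff
    linear_combination (norm := abel) (-1 : ℤ) • hoff
  have hdet : A.det = 1 := by rw [← det_incMat hf A, heq]; exact g.1.2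
  have hpres : ∀ x y, Cfsg.hermForm k F q (A *ᵥ x) (A *ᵥ y) = Cfsg.hermForm k F q x y := by
    intro x y
    rw [hA, hA, ← h_P_left, ← key, h_act, h_P_left, RP_vec hf]
  exact ⟨suMk hF A hdet hpres, ext_mat heq⟩

/-- The interval inclusion. -/
def sh (o : ℕ) (h : o + k ≤ N) (a : Fin k) : Fin N :=
  ⟨o + a, lt_of_lt_of_le (Nat.add_lt_add_left a.2 o) h⟩

theorem sh_inj (o : ℕ) (h : o + k ≤ N) : Function.Injective (sh o h) := fun a b e => by
  have := congrArg Fin.val e; simp [sh] at this; exact Fin.ext this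

/-- The block embedding on an interval of coordinates. -/
noncomputable def blk (hF : Fintype.card F = q ^ 2) (o : ℕ) (h : o + k ≤ N) : Cfsg.SU k F q →* Cfsg.SU N F q :=
  inc hF (sh_inj o h)

theorem blk_blk (o o' : ℕ) (h : o + k ≤ N) (h' : o' + l ≤ k) (x : Cfsg.SU l F q) :
    blk hF o h (blk hF o' h' x) = blk hF (o + o') (by omega) x := by
  rw [blk, blk, blk, inc_inc]
  exact inc_congr _ (funext fun a => Fin.ext (by simp [sh, add_assoc])) x

theorem blk_congr {o o' : ℕ} (e : o = o') (h : o + k ≤ N) (h' : o' + k ≤ N) (x : Cfsg.SU k F q) :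
    blk hF o h x = blk hF o' h' x := by subst e; rfl

theorem blk_comm {o o' : ℕ} (h : o + k ≤ N) (h' : o' + l ≤ N) (hoo : o + k ≤ o')
    (x : Cfsg.SU k F q) (y : Cfsg.SU l F q) : blk hF o h x * blk hF o' h' y = blk hF o' h' y * blk hF o h x :=
  inc_comm _ (fun a b e => by have := congrArg Fin.val e; simp [sh] at this; omega) x y

theorem blk_bas (o : ℕ) (h : o + k ≤ N) (g : Cfsg.SU k F q) (a : Fin k) (i : Fin N) (hi : (i : ℕ) = o + a) :
    act (blk hF o h g) (bas i) = P F (sh o h) *ᵥ act g (bas a) := by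
  rw [show i = sh o h a from Fin.ext hi]; exact act_inc_bas g a

theorem blk_off (o : ℕ) (h : o + k ≤ N) (g : Cfsg.SU k F q) (i : Fin N) (hi : (i : ℕ) < o ∨ o + k ≤ i) :
    act (blk hF o h g) (bas i) = bas i :=
  act_inc_off g fun a e => by have := congrArg Fin.val e; simp [sh] at this; omega

theorem mem_range_blk {o : ℕ} (h : o + k ≤ N) {g : Cfsg.SU N F q}
    (hg : ∀ i : Fin N, ((i : ℕ) < o ∨ o + k ≤ i) → act g (bas i) = bas i) : g ∈ (blk hF o h).range :=
  mem_range_inc fun i hi => hg i (by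
    by_contra hc
    push Not at hc
    exact hi ⟨i - o, by omega⟩ (Fin.ext (by simp [sh]; omega)))

variable (hF) in
/-- The element `[[a, -b^q], [b, a^q]]` of `SU₂`. -/
noncomputable def mk2 (a b : F) (h : a * a ^ q + b * b ^ q = 1) : Cfsg.SU 2 F q :=
  suMk hF !![a, -(b ^ q); b, a ^ q]
    (by rw [Matrix.det_fin_two_of]; linear_combination h)
    (by
      intro u v
      simp only [Cfsg.hermForm, Matrix.mulVec, dotProduct, Fin.sum_univ_two, Matrix.cons_val_zero,
        Matrix.cons_val_one, Matrix.of_apply, Matrix.cons_val', Matrix.empty_val', Matrix.cons_val_fin_one,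
        q_add hF, mul_pow, q_neg hF, pow_q_pow_q hF]
      linear_combination (u 0 * v 0 ^ q + u 1 * v 1 ^ q) * h)

theorem mat_mk2 (a b : F) (h : a * a ^ q + b * b ^ q = 1) : mat (mk2 hF a b h) = !![a, -(b ^ q); b, a ^ q] := rfl

theorem su2_entries (hF : Fintype.card F = q ^ 2) (x : Cfsg.SU 2 F q) :
    mat x 0 0 * mat x 0 0 ^ q + mat x 1 0 * mat x 1 0 ^ q = 1 := by
  have h := h_act x (bas 0) (bas 0)
  rw [h_bas_right _ _ (q_ne_zero hF)] at h
  simp only [act, Matrix.mulVec_single_one] at h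
  simpa [Cfsg.hermForm, Fin.sum_univ_two] using h

theorem su2_shape (x : Cfsg.SU 2 F q) :
    x = mk2 hF (mat x 0 0) (mat x 1 0) (su2_entries hF x) := by
  have hn := su2_entries hF x
  have hd : mat x 0 0 * mat x 1 1 - mat x 0 1 * mat x 1 0 = 1 := by
    rw [← Matrix.det_fin_two]; exact x.1.2
  have h := h_act x (bas 1) (bas 0)
  rw [h_bas_right _ _ (q_ne_zero hF)] at h
  simp only [act, Matrix.mulVec_single_one] at h
  have h01 : mat x 0 1 * mat x 0 0 ^ q + mat x 1 1 * mat x 1 0 ^ q = 0 := by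
    simpa [Cfsg.hermForm, Fin.sum_univ_two] using h
  refine ext_mat ?_
  rw [mat_mk2]
  have e11 : mat x 1 1 = mat x 0 0 ^ q := by
    linear_combination (mat x 0 0 ^ q) * hd + (mat x 1 0) * h01 - (mat x 1 1) * hn
  have e01 : mat x 0 1 = -(mat x 1 0 ^ q) := by
    linear_combination (mat x 0 0) * h01 - (mat x 1 0 ^ q) * hd - (mat x 0 1) * hn
  ext i j
  fin_cases i <;> fin_cases j <;> simp [e11, e01]

variable (hF) in
/-- The Weyl element of `SU₂`. -/
noncomputable def w2 : Cfsg.SU 2 F q := mk2 hF 0 (-1) (by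
  rw [q_neg hF, one_pow]; ring)

variable (hF) in
/-- The torus of `SU₂`. -/
noncomputable def dia (a : F) (ha : a * a ^ q = 1) : Cfsg.SU 2 F q :=
  mk2 hF a 0 (by rw [zero_mul, add_zero, ha])

theorem exists_unit_move (hF : Fintype.card F = q ^ 2) {v z : Fin N → F} (h0 : 0 < N)
    (hv : Cfsg.hermForm N F q v v = 1) (hz : Cfsg.hermForm N F q z z ≠ 0) (hvz : Cfsg.hermForm N F q v z = 0) :
    ∃ g : Cfsg.SU N F q, act g (bas ⟨0, h0⟩) = v := by
  have hv0 : v ≠ 0 := fun e => by rw [e, h_zero_left hF] at hv; exact zero_ne_one hv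
  have hb : Cfsg.hermForm N F q (bas ⟨0, h0⟩) (bas ⟨0, h0⟩) = (1 : F) := by
    rw [h_bas_right _ _ (q_ne_zero hF), bas, Pi.single_eq_same]
  obtain ⟨g, hg, hgv⟩ := UnitaryReg9.exists_su_map hF (fun _ : Fin 1 => (bas ⟨0, h0⟩ : Fin N → F)) (fun _ => v)
    (LinearIndependent.of_subsingleton 0 (by simp [bas]))
    (LinearIndependent.of_subsingleton 0 hv0)
    (fun i j => by rw [hb, hv]) hz fun _ => hvz
  exact ⟨suMk hF _ (mem_suGL_iff.mp hg).2 (mem_suGL_iff.mp hg).1, hgv 0⟩

end Cfsg.Agent.Lib.Phan
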