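import Cfsg.Agent.Lib.Phan.Cover

/-!
Consecutive three-dimensional blocks present the special unitary group.
-/

set_option autoImplicit false

namespace Cfsg.Agent.Lib.Phan

open Matrix Cfsg.Agent.Lib.Forms Cfsg.Agent.Lib.UnitaryMax

variable {F : Type*} [Field F] [Fintype F] {q : ℕ}

theorem blk_self (hF : Fintype.card F = q ^ 2) {k : ℕ} (h : 0 + k ≤ k) (x : Cfsg.SU k F q) : blk hF 0 h x = x := by
  have e : sh 0 h = (id : Fin k → Fin k) := funext fun a => Fin.ext (by simp [sh])
  refine ext_mat ?_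
  show incMat (sh 0 h) (mat x) = mat x
  rw [e, incMat, P, R, Matrix.submatrix_id_id, one_mul, mul_one, add_sub_cancel]

theorem exists_trace_ne (hF : Fintype.card F = q ^ 2) {c : F} (hc : c ≠ 0) :
    ∃ μ : F, μ * μ ^ q = 1 ∧ μ * c + (μ * c) ^ q ≠ 0 := by
  classical
  obtain ⟨ω, hω, hω1, hωm, hωq⟩ := exists_omega hF
  have hω' : ω * ω ^ q = 1 := by simpa [normOne] using hω
  by_contra hne
  push Not at hne
  have h1 := hne 1 (by rw [one_pow, one_mul])
  have h2 := hne ω hω'
  rw [one_mul] at h1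
  rw [mul_pow] at h2
  have : (ω - ω ^ q) * c = 0 := by linear_combination h2 - ω ^ q * h1
  exact hωq (sub_eq_zero.mp ((mul_eq_zero.mp this).resolve_right hc)).symm

/-- The block subgroups on consecutive pairs generate. -/
theorem blkGen (hF : Fintype.card F = q ^ 2) (hq : 3 < q) : ∀ {N : ℕ}, 2 ≤ N → BlkGen hF N := by
  intro N hN
  induction N, hN using Nat.le_induction with
  | base =>
    intro S hS g
    simpa [blk_self] using hS 0 le_rfl g
  | succ N hN ih =>
    intro S hS g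
    have hq0 := q_ne_zero hF
    have htail : ∀ t : Cfsg.SU N F q, blk hF 1 (by omega) t ∈ S :=
      ih (S.comap (blk hF 1 (show 1 + N ≤ N + 1 by omega))) fun i hi x => by
        rw [Subgroup.mem_comap, blk_blk]
        exact hS _ _ x
    set e0 : Fin (N + 1) → F := bas 0 with he0
    set e1 : Fin (N + 1) → F := bas ⟨1, by omega⟩ with he1
    have hh0 : Cfsg.hermForm (N + 1) F q e0 e0 = 1 := by
      rw [h_bas_right _ _ hq0, he0, bas, Pi.single_eq_same]
    have col : ∀ (a b : F) (h : a * a ^ q + b * b ^ q = 1),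
        act (blk hF 0 (show 0 + 2 ≤ N + 1 by omega) (mk2 hF a b h)) e0 = a • e0 + b • e1 := fun a b h =>
      act_blk_two _ _ (mk2_bas0 a b h) _ _ _ (by simp) (by simp) (by simp)
    have split : ∀ v : Fin (N + 1) → F, Cfsg.hermForm (N + 1) F q v v = 1 →
        Cfsg.hermForm (N + 1) F q (v - v 0 • e0) (v - v 0 • e0) = 1 - v 0 * v 0 ^ q := by
      intro v hv
      have h1 : Cfsg.hermForm (N + 1) F q v e0 = v 0 := h_bas_right _ _ hq0
      have h2 : Cfsg.hermForm (N + 1) F q e0 v = v 0 ^ q := by rw [← herm_conj hF, h1]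
      simp only [h_sub_left hF, h_sub_right hF, herm_smul_left hF, herm_smul_right hF, hv, h1, h2, hh0]
      ring
    have direct : ∀ v : Fin (N + 1) → F, Cfsg.hermForm (N + 1) F q v v = 1 →
        (v 0 * v 0 ^ q ≠ 1 ∨ v = v 0 • e0) → ∃ s ∈ S, act s e0 = v := by
      intro v hv hcase
      by_cases hr : v = v 0 • e0
      · have hn : v 0 * v 0 ^ q + 0 * 0 ^ q = 1 := by
          rw [hr, herm_smul_left hF, herm_smul_right hF, hh0, mul_one] at hv
          rw [zero_mul, add_zero, hv]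
        exact ⟨_, hS 0 _ (mk2 hF _ _ hn), by rw [col, zero_smul, add_zero, ← hr]⟩
      have hne := hcase.resolve_right hr
      set r := v - v 0 • e0 with hrdef
      have hrr := split v hv
      rw [← hrdef] at hrr
      obtain ⟨s, hs0, hs⟩ := exists_scale hF (y := r) (by rw [hrr]; exact sub_ne_zero.mpr (Ne.symm hne))
      obtain ⟨t, ht⟩ := exists_tail_move hF (o := 1) (k := N) (by omega) hN hs (fun i hi => by
        rw [show i = 0 from Fin.ext (by rw [Fin.val_zero]; omega), Pi.smul_apply, hrdef]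
        simp [he0]) ⟨1, by omega⟩ rfl
      have hab : v 0 * v 0 ^ q + s⁻¹ * s⁻¹ ^ q = 1 := by
        rw [herm_smul_left hF, herm_smul_right hF, hrr] at hs
        have := pow_ne_zero q hs0
        rw [inv_pow]
        field_simp
        linear_combination -hs
      refine ⟨_, S.mul_mem (htail t) (hS 0 (by omega) (mk2 hF _ _ hab)), ?_⟩
      rw [act_mul, col, act, mulVec_add, mulVec_smul, mulVec_smul]
      change v 0 • act _ e0 + s⁻¹ • act _ e1 = v
      rw [blk_off 1 _ t 0 (Or.inl (by simp)), he1, ht, smul_smul, inv_mul_cancel₀ hs0, one_smul, hrdef,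
        add_sub_cancel]
    have hv : Cfsg.hermForm (N + 1) F q (act g e0) (act g e0) = 1 := by rw [h_act, hh0]
    set v := act g e0 with hvdef
    suffices hs : ∃ s ∈ S, act s e0 = v by
      obtain ⟨s, hsS, hs⟩ := hs
      have hmem : s⁻¹ * g ∈ (blk hF 1 (show 1 + N ≤ N + 1 by omega)).range := mem_range_blk _ fun j hj => by
        rw [show j = 0 from Fin.ext (by rw [Fin.val_zero]; omega), act_mul, ← hvdef, ← hs, act_inv]
      obtain ⟨t, ht⟩ := hmem
      rw [show g = s * (s⁻¹ * g) from (mul_inv_cancel_left s g).symm, ← ht]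
      exact S.mul_mem hsS (htail t)
    by_cases hcase : v 0 * v 0 ^ q ≠ 1 ∨ v = v 0 • e0
    · exact direct v hv hcase
    push Not at hcase
    obtain ⟨hα, hne⟩ := hcase
    obtain ⟨i, hi⟩ : ∃ i, v i ≠ (v 0 • e0) i := Function.ne_iff.mp hne
    have hi0 : i ≠ 0 := fun e => hi (by rw [e]; simp [he0])
    have hvi : v i ≠ 0 := by simpa [he0, hi0] using hi
    obtain ⟨t, ht⟩ := exists_tail_move hF (o := 1) (k := N) (v := (bas i : Fin (N + 1) → F)) (by omega) hN
      (by rw [h_bas_right _ _ hq0, bas, Pi.single_eq_same]) (fun j hj => by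
        rw [show j = 0 from Fin.ext (by rw [Fin.val_zero]; omega), bas, Pi.single_eq_of_ne (Ne.symm hi0)])
      ⟨1, by omega⟩ rfl
    set T := blk hF 1 (show 1 + N ≤ N + 1 by omega) t with hT
    set w := act T⁻¹ v with hw
    have hTw : act T w = v := act_inv' _ _
    have hw0 : w 0 = v 0 := by
      have e := h_act T w (bas 0)
      rw [hTw, hT, blk_off (hF := hF) 1 _ t 0 (Or.inl (by simp)), h_bas_right _ _ hq0, h_bas_right _ _ hq0] at e
      exact e.symm
    have hw1 : w ⟨1, by omega⟩ ≠ 0 := by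
      rw [← h_bas_right (q := q) w ⟨1, by omega⟩ hq0, ← h_act T, hTw, ht, h_bas_right _ _ hq0]
      exact hvi
    set β := w ⟨1, by omega⟩ with hβ
    obtain ⟨a, b, hab, hgood⟩ : ∃ (a b : F) (_ : a * a ^ q + b * b ^ q = 1),
        (a ^ q * v 0 + b ^ q * β) * (a ^ q * v 0 + b ^ q * β) ^ q ≠ 1 := by
      by_cases hβ1 : β * β ^ q = 1
      swap
      · refine ⟨0, 1, by rw [zero_mul, one_pow, one_mul, zero_add], ?_⟩
        simpa [q_zero hF] using hβ1
      obtain ⟨τ, hτq, hτ0, hτ1, -⟩ := exists_fixed_ne hF hq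
      obtain ⟨a, ha⟩ := UnitaryReg9.exists_norm hF hτq
      obtain ⟨b, hb⟩ := UnitaryReg9.exists_norm hF (r := 1 - τ) (by rw [q_sub hF, one_pow, hτq])
      have hc : a ^ q * v 0 * (b * β ^ q) ≠ 0 := by
        have : a ≠ 0 := fun e => hτ0 (by rw [← ha, e, zero_mul])
        have : b ≠ 0 := fun e => hτ1 (by rw [e, zero_mul] at hb; linear_combination hb)
        have : v 0 ≠ 0 := fun e => zero_ne_one (by rw [← hα, e, zero_mul])
        simp_all
      obtain ⟨μ, hμ, hμc⟩ := exists_trace_ne hF hc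
      refine ⟨a, μ * b, by rw [mul_pow, mul_mul_mul_comm, hμ, ha, hb]; ring, fun e => hμc ?_⟩
      simp only [q_add hF, mul_pow, pow_q_pow_q hF] at e ⊢
      linear_combination e - (v 0 * v 0 ^ q) * ha - τ * hα - (β * β ^ q * (μ * μ ^ q)) * hb -
        ((1 - τ) * (μ * μ ^ q)) * hβ1 - (1 - τ) * hμ
    set M := blk hF 0 (show 0 + 2 ≤ N + 1 by omega) (mk2 hF a b hab) with hM
    set u := act M⁻¹ w with hu
    have hMu : act M u = w := act_inv' _ _
    have hu0 : u 0 = a ^ q * v 0 + b ^ q * β := by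
      rw [← h_bas_right (q := q) u 0 hq0, ← h_act M, hMu, col, herm_add_right hF, herm_smul_right hF,
        herm_smul_right hF, h_bas_right _ _ hq0, h_bas_right _ _ hq0, hw0, ← hβ]
    obtain ⟨s, hsS, hs⟩ := direct u (by rw [← h_act M, hMu, ← h_act T, hTw]; exact hv)
      (Or.inl (by rw [hu0]; exact hgood))
    exact ⟨T * M * s, S.mul_mem (S.mul_mem (htail t) (hS 0 _ _)) hsS, by rw [act_mul, act_mul, hs, hMu, hTw]⟩

/-- The amalgam of consecutive blocks maps from the whole group. -/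
theorem exists_amalgam {G : Type*} [Group G] (hF : Fintype.card F = q ^ 2) (hq : 3 < q) :
    ∀ (m : ℕ) (φ : ℕ → (Cfsg.SU 3 F q →* G)) (u : ℕ → (Cfsg.SU 2 F q →* G)),
      (∀ i ≤ m, ∀ x, φ i (blk hF 0 (by omega) x) = u i x) →
      (∀ i ≤ m, ∀ x, φ i (blk hF 1 (by omega) x) = u (i + 1) x) →
      (∀ i j, i + 2 ≤ j → j ≤ m + 1 → ∀ x y, u i x * u j y = u j y * u i x) →
      ∃ Φ : Cfsg.SU (m + 3) F q →* G, ∀ i (h : i + 3 ≤ m + 3) x, Φ (blk hF i h x) = φ i x := by
  intro m
  induction m with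
  | zero =>
    intro φ u _ _ _
    refine ⟨φ 0, fun i h x => ?_⟩
    obtain rfl : i = 0 := by omega
    rw [blk_self hF h x]
  | succ m ih =>
    intro φ u h0 h1 hc
    obtain ⟨Ψ, hΨ⟩ := ih (fun i => φ (i + 1)) (fun i => u (i + 1))
      (fun i hi => h0 (i + 1) (by omega)) (fun i hi => h1 (i + 1) (by omega))
      (fun i j hij hj => hc (i + 1) (j + 1) (by omega) (by omega))
    have ag : ∀ x : Cfsg.SU 2 F q, φ 0 (blk hF 1 (by omega) x) = Ψ (blk hF 0 (by omega) x) := fun x => by
      have e := hΨ 0 (by omega) (blk hF 0 (show 0 + 2 ≤ 3 by omega) x)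
      rw [blk_blk] at e
      rw [e, h1 0 (Nat.zero_le _), h0 1 (by omega)]
    have cm : ∀ (x : Cfsg.SU 2 F q) (t : Cfsg.SU (m + 2) F q), φ 0 (blk hF 0 (by omega) x) * Ψ (blk hF 1 (by omega) t) =
        Ψ (blk hF 1 (by omega) t) * φ 0 (blk hF 0 (by omega) x) := fun x t => by
      have key := blkGen hF hq (show 2 ≤ m + 2 by omega)
        ((Subgroup.centralizer {u 0 x}).comap (Ψ.comp (blk hF 1 (show 1 + (m + 2) ≤ m + 3 by omega))))
        (fun i hi y => by
          rw [Subgroup.mem_comap, Subgroup.mem_centralizer_singleton_iff, MonoidHom.comp_apply, blk_blk]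
          have e := hΨ i (by omega) (blk hF 1 (show 1 + 2 ≤ 3 by omega) y)
          rw [blk_blk, h1 (i + 1) (by omega)] at e
          rw [blk_congr (show 1 + i = i + 1 by omega) _ (show (i + 1) + 2 ≤ m + 3 by omega), e]
          exact (hc 0 (i + 1 + 1) (by omega) (by omega) x y).symm) t
      rw [Subgroup.mem_comap, Subgroup.mem_centralizer_singleton_iff] at key
      rw [h0 0 (Nat.zero_le _)]
      exact key.symm
    obtain ⟨Φ, hA, hB⟩ := Amalgam.exists_extend (m := m) (hF := hF) (φ := φ 0) (ψ := Ψ) ag cm (blkGen hF hq (show 2 ≤ m + 3 by omega)) hq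
      (blkGen hF hq (show 2 ≤ 3 by omega)) (blkGen hF hq (show 2 ≤ m + 4 by omega))
    refine ⟨Φ, fun i h x => ?_⟩
    rcases Nat.eq_zero_or_pos i with rfl | hi
    · exact hA x
    · obtain ⟨j, rfl⟩ : ∃ j, i = j + 1 := ⟨i - 1, by omega⟩
      rw [← hΨ j (by omega) x, ← hB, blk_blk]
      exact congrArg Φ (blk_congr (by omega) _ _ _)

end Cfsg.Agent.Lib.Phan
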