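import Cfsg.Agent.Lib.Phan.AutTwo

/-!
Normalising the identifications of consecutive standard pairs.
-/

set_option autoImplicit false

namespace Cfsg.Agent.Lib.Phan

open Matrix Cfsg.Agent.Lib.Forms Cfsg.Agent.Lib.UnitaryMax

variable {F : Type*} [Field F] [Fintype F] {q k N : ℕ} {G : Type*} [Group G]

omit [Fintype F] in
theorem mat_eq_act (g : Cfsg.SU N F q) (i j : Fin N) : mat g i j = act g (bas j) i := by
  simp [act, Matrix.mulVec_single_one]

theorem blk_entry (hF : Fintype.card F = q ^ 2) {o : ℕ} (h : o + k ≤ N) (g : Cfsg.SU k F q) (a b : Fin k) :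
    mat (blk hF o h g) (sh o h a) (sh o h b) = mat g a b := by
  rw [mat_eq_act, mat_eq_act, blk_bas o h g b _ rfl, ← R_mulVec (sh o h) (P F (sh o h) *ᵥ _) a,
    RP_vec (sh_inj o h)]

omit [Fintype F] in
theorem ext_bas {g g' : Cfsg.SU N F q} (h : ∀ j, act g (bas j) = act g' (bas j)) : g = g' :=
  ext_mat (Matrix.ext fun i j => by rw [mat_eq_act, mat_eq_act, h j])

omit [Fintype F] in
theorem center_fix {z : Cfsg.SU N F q} (hz : z ∈ Subgroup.center (Cfsg.SU N F q)) (g : Cfsg.SU N F q) {i j : Fin N}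
    {c : F} (hc : c ≠ 0) (hg : act g (bas i) = c • bas j) (hi : act z (bas i) = bas i) : act z (bas j) = bas j := by
  have h1 : act (z * g) (bas i) = act (g * z) (bas i) := by rw [Subgroup.mem_center_iff.mp hz g]
  rw [act_mul, act_mul, hg, hi, hg, act_smul] at h1
  exact smul_right_injective _ hc h1

/-- The two blocks of `SU₃` meet the centre trivially. -/
theorem blk_center (hF : Fintype.card F = q ^ 2) {o : ℕ} (ho : o + 2 ≤ 3) (x : Cfsg.SU 2 F q)
    (h : blk hF o ho x ∈ Subgroup.center (Cfsg.SU 3 F q)) : x = 1 := by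
  set z := blk hF o ho x with hz
  have e01 : act (blk hF 0 (show 0 + 2 ≤ 3 by omega) (w2 hF)) (bas 0) = (-1 : F) • bas 1 := Amalgam.w0_bas0
  have e10 : act (blk hF 0 (show 0 + 2 ≤ 3 by omega) (w2 hF)) (bas 1) = (1 : F) • bas 0 :=
    act_blk_line _ _ w2_bas1 _ _ (by simp) (by simp)
  have e12 : act (blk hF 1 (show 1 + 2 ≤ 3 by omega) (w2 hF)) (bas 1) = (-1 : F) • bas 2 := Amalgam.w1_bas1
  have e21 : act (blk hF 1 (show 1 + 2 ≤ 3 by omega) (w2 hF)) (bas 2) = (1 : F) • bas 1 :=
    act_blk_line _ _ w2_bas1 _ _ (by simp) (by simp)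
  have hm : (-1 : F) ≠ 0 := neg_ne_zero.mpr one_ne_zero
  have h1 : act z (bas 1) = bas 1 := by
    rcases (show o = 0 ∨ o = 1 by omega) with rfl | rfl
    · exact center_fix h _ one_ne_zero e21 (blk_off _ _ _ _ (Or.inr (by simp)))
    · exact center_fix h _ hm e01 (blk_off _ _ _ _ (Or.inl (by simp)))
  have h0 := center_fix h _ one_ne_zero e10 h1
  have h2 := center_fix h _ hm e12 h1
  refine inc_injective (hF := hF) (hf := sh_inj o ho) ?_
  rw [map_one]
  show z = 1
  refine ext_bas fun j => ?_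
  rw [act_one]
  fin_cases j
  exacts [h0, h1, h2]

theorem suBlock_eq_range (hF : Fintype.card F = q ^ 2) {o : ℕ} (ho : o + k ≤ N) (s : Set (Fin N))
    (hs : ∀ i : Fin N, i ∈ s ↔ o ≤ (i : ℕ) ∧ (i : ℕ) < o + k) :
    Cfsg.suBlock N F q s = (blk hF o ho).range := by
  refine le_antisymm ((Subgroup.closure_le _).mpr fun A hA => ?_) ?_
  · refine mem_range_blk ho fun i hi => ?_
    obtain ⟨h1, h2⟩ := hA i (fun e => by have := (hs i).mp e; omega)
    funext l
    rw [← mat_eq_act]
    by_cases hl : l = i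
    · subst hl; rw [bas, Pi.single_eq_same]; exact h1
    · rw [bas, Pi.single_eq_of_ne hl]; exact (h2 l hl).2
  · rintro _ ⟨x, rfl⟩
    refine Subgroup.subset_closure fun i hi => ?_
    have hoff : ∀ a, sh o ho a ≠ i := fun a e => hi ((hs i).mpr (by
      have := congrArg Fin.val e; simp [sh] at this; omega))
    have col : act (blk hF o ho x) (bas i) = bas i := act_inc_off x hoff
    have row : ∀ l, mat (blk hF o ho x) i l = (1 : Matrix (Fin N) (Fin N) F) i l := fun l => by
      rw [show mat (blk hF o ho x) = incMat (sh o ho) (mat x) from rfl, incMat, Matrix.add_apply,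
        Matrix.mul_assoc, Matrix.mul_apply]
      rw [Finset.sum_eq_zero fun a _ => by simp [P, Matrix.one_apply, Ne.symm (hoff a)], add_zero]
    refine ⟨(row i).trans (Matrix.one_apply_eq i), fun l hl => ⟨(row l).trans (Matrix.one_apply_ne hl.symm), ?_⟩⟩
    exact (mat_eq_act _ l i).trans (by rw [col, bas, Pi.single_eq_of_ne hl])

/-- The semilinear monomial automorphism. -/
noncomputable def semi (hF : Fintype.card F = q ^ 2) (τ : F ≃+* F) (d : Fin N → F)
    (hd : ∀ i, d i * d i ^ q = 1) : Cfsg.SU N F q →* Cfsg.SU N F q :=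
  MonoidHom.mk' (fun x => suMk hF (Matrix.diagonal d * (mat x).map τ * Matrix.diagonal fun i => d i ^ q)
    (by
      rw [det_mul, det_mul, det_diagonal, det_diagonal, mul_right_comm, ← Finset.prod_mul_distrib,
        Finset.prod_eq_one fun i _ => hd i, one_mul]
      show (τ.toRingHom.mapMatrix (mat x)).det = 1
      rw [← RingHom.map_det, show (mat x).det = 1 from x.1.2, map_one])
    (fun u v => by
      have hD : ∀ (e : Fin N → F), (∀ i, e i * e i ^ q = 1) → ∀ a b,
          Cfsg.hermForm N F q (Matrix.diagonal e *ᵥ a) (Matrix.diagonal e *ᵥ b) = Cfsg.hermForm N F q a b := by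
        intro e he a b
        refine Finset.sum_congr rfl fun i _ => ?_
        rw [mulVec_diagonal, mulVec_diagonal, mul_pow]
        linear_combination (a i * b i ^ q) * he i
      have hτ : ∀ a b : Fin N → F,
          Cfsg.hermForm N F q (fun i => τ (a i)) (fun i => τ (b i)) = τ (Cfsg.hermForm N F q a b) := by
        intro a b; simp [Cfsg.hermForm, map_sum]
      have hx : ∀ a : Fin N → F, (mat x).map τ *ᵥ a = fun i => τ ((mat x *ᵥ fun j => τ.symm (a j)) i) := by
        intro a; funext i; simp [Matrix.mulVec, dotProduct, map_sum]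
      rw [← mulVec_mulVec, ← mulVec_mulVec, ← mulVec_mulVec, ← mulVec_mulVec, hD d hd, hx, hx, hτ]
      have := h_act x (fun j => τ.symm ((Matrix.diagonal (fun i => d i ^ q) *ᵥ u) j))
        (fun j => τ.symm ((Matrix.diagonal (fun i => d i ^ q) *ᵥ v) j))
      rw [act, act] at this
      rw [this, ← hτ]
      simp only [RingEquiv.apply_symm_apply]
      exact hD _ (fun i => norm_conj hF (hd i)) u v))
    fun x y => ext_mat (by
      show _ = (Matrix.diagonal d * (mat x).map τ * Matrix.diagonal fun i => d i ^ q) *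
        (Matrix.diagonal d * (mat y).map τ * Matrix.diagonal fun i => d i ^ q)
      show Matrix.diagonal d * (mat x * mat y).map τ * Matrix.diagonal (fun i => d i ^ q) = _
      rw [Matrix.map_mul]
      simp only [Matrix.mul_assoc]
      rw [← Matrix.mul_assoc (Matrix.diagonal fun i => d i ^ q) (Matrix.diagonal d), Matrix.diagonal_mul_diagonal]
      have : (fun i => d i ^ q * d i) = fun _ => (1 : F) := funext fun i => by rw [mul_comm, hd i]
      rw [this, Matrix.diagonal_one, Matrix.one_mul])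

theorem mat_semi (hF : Fintype.card F = q ^ 2) (τ : F ≃+* F) (d : Fin N → F) (hd : ∀ i, d i * d i ^ q = 1)
    (x : Cfsg.SU N F q) (i j : Fin N) : mat (semi hF τ d hd x) i j = d i * τ (mat x i j) * d j ^ q := by
  show (Matrix.diagonal d * (mat x).map τ * Matrix.diagonal fun i => d i ^ q) i j = _
  rw [Matrix.mul_diagonal, Matrix.diagonal_mul, Matrix.map_apply]

theorem semi_injective (hF : Fintype.card F = q ^ 2) (τ : F ≃+* F) (d : Fin N → F)
    (hd : ∀ i, d i * d i ^ q = 1) : Function.Injective (semi hF τ d hd) := fun x y h => ext_mat <| by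
  ext i j
  have e := congrArg (fun z => mat z i j) h
  simp only [mat_semi] at e
  have hi : d i ≠ 0 := fun e => by have := hd i; simp [e] at this
  have hj : d j ^ q ≠ 0 := pow_ne_zero _ fun e => by have := hd j; simp [e] at this
  exact τ.injective (mul_left_cancel₀ hi (mul_right_cancel₀ hj e))

theorem semi_fix (hF : Fintype.card F = q ^ 2) (τ : F ≃+* F) (d : Fin N → F) (hd : ∀ i, d i * d i ^ q = 1)
    {x : Cfsg.SU N F q} {j : Fin N} (hx : act x (bas j) = bas j) :
    act (semi hF τ d hd x) (bas j) = bas j := by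
  funext i
  rw [← mat_eq_act, mat_semi, mat_eq_act, hx]
  by_cases h : i = j
  · subst h; simp [hd i]
  · simp [h]

/-- A normalised identification of a standard pair. -/
def GoodPair (hF : Fintype.card F = q ^ 2) (φ : Cfsg.SU 3 F q →* G) (A B : Subgroup G) : Prop :=
  φ.ker ≤ Subgroup.center (Cfsg.SU 3 F q) ∧ (φ.comp (blk hF 0 (by omega : 0 + 2 ≤ 3))).range = A ∧
    (φ.comp (blk hF 1 (by omega : 1 + 2 ≤ 3))).range = B

theorem GoodPair.injective {hF : Fintype.card F = q ^ 2} {φ : Cfsg.SU 3 F q →* G} {A B : Subgroup G}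
    (h : GoodPair hF φ A B) {o : ℕ} (ho : o + 2 ≤ 3) : Function.Injective (φ.comp (blk hF o ho)) :=
  (injective_iff_map_eq_one _).mpr fun x hx => blk_center hF ho x (h.1 hx)

theorem exists_good (hF : Fintype.card F = q ^ 2) {V A B : Subgroup G}
    (h : Cfsg.IsStandardUnitaryPair V A B F q) :
    ∃ φ : Cfsg.SU 3 F q →* G, GoodPair hF φ A B ∧ φ.range = V := by
  have b0 : Cfsg.suBlock 3 F q {0, 1} = (blk hF 0 (show 0 + 2 ≤ 3 by omega)).range :=
    suBlock_eq_range hF _ _ fun i => by fin_cases i <;> simp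
  have b1 : Cfsg.suBlock 3 F q {1, 2} = (blk hF 1 (show 1 + 2 ≤ 3 by omega)).range :=
    suBlock_eq_range hF _ _ fun i => by fin_cases i <;> simp
  have mk : ∀ φ : Cfsg.SU 3 F q →* G, φ.ker ≤ Subgroup.center _ → φ.range = V →
      (Cfsg.suBlock 3 F q {0, 1}).map φ = A → (Cfsg.suBlock 3 F q {1, 2}).map φ = B →
      ∃ φ : Cfsg.SU 3 F q →* G, GoodPair hF φ A B ∧ φ.range = V := by
    intro φ h1 h2 h3 h4
    rw [b0, MonoidHom.map_range] at h3
    rw [b1, MonoidHom.map_range] at h4
    exact ⟨φ, ⟨h1, h3, h4⟩, h2⟩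
  have rg : ∀ {H : Type _} [Group H] (χ : H →* V), Function.Surjective χ → (V.subtype.comp χ).range = V :=
    fun χ hχ => by rw [MonoidHom.range_comp, MonoidHom.range_eq_top.mpr hχ, ← MonoidHom.range_eq_map,
      Subgroup.range_subtype]
  rcases h with ⟨ψ, hA, hB⟩ | ⟨ψ, hA, hB⟩
  · refine mk _ (fun x hx => ?_) (rg _ ψ.surjective) hA hB
    have : x = 1 := ψ.injective ((Subtype.ext (MonoidHom.mem_ker.mp hx)).trans (map_one ψ).symm)
    exact this ▸ one_mem _
  · refine mk _ (fun x hx => ?_) (rg (ψ.toMonoidHom.comp (QuotientGroup.mk' _)) fun v => ?_) hA hB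
    · have : QuotientGroup.mk' (Subgroup.center (Cfsg.SU 3 F q)) x = 1 :=
        ψ.injective ((Subtype.ext (MonoidHom.mem_ker.mp hx)).trans (map_one ψ).symm)
      exact (QuotientGroup.eq_one_iff x).mp this
    · obtain ⟨p, rfl⟩ := ψ.surjective v
      obtain ⟨x, rfl⟩ := QuotientGroup.mk'_surjective _ p
      exact ⟨x, rfl⟩

/-- The identification on the shared block preserves the torus. -/
theorem torus_stable (hF : Fintype.card F = q ^ 2) {φ ψ : Cfsg.SU 3 F q →* G} {A B C : Subgroup G}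
    (hφ : GoodPair hF φ A B) (hψ : GoodPair hF ψ B C) (hAC : ∀ a ∈ A, ∀ c ∈ C, a * c = c * a)
    (α : MulAut (Cfsg.SU 2 F q))
    (hα : ∀ x, ψ (blk hF 0 (by omega) (α x)) = φ (blk hF 1 (by omega) x)) (a : F) (ha : a * a ^ q = 1) :
    ∃ b, ∃ (hb : b * b ^ q = 1), α (dia hF a ha) = dia hF b hb := by
  classical
  have hq := q_ne_zero hF
  obtain ⟨ω, hω, hω1, -, hωq⟩ := exists_omega hF
  have hω' : ω * ω ^ q = 1 := by simpa [normOne] using hω
  have back : ∀ l (hl : l * l ^ q = 1), ∃ p, ∃ (hp : p * p ^ q = 1), α.symm (dia hF l hl) = dia hF p hp := by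
    intro l hl
    set y := α.symm (dia hF l hl) with hy
    set p := mat y 0 0 with hp
    set r := mat y 1 0 with hr
    have hys := su2_shape (hF := hF) y
    suffices hr0 : r = 0 by
      have hn := su2_entries hF y
      rw [← hr, hr0, zero_mul, add_zero] at hn
      refine ⟨p, hn, ?_⟩
      refine ext_mat ?_
      rw [congrArg mat hys, dia, mat_mk2, mat_mk2]
      simp [← hp, ← hr, hr0]
    set d := blk hF 0 (show 0 + 2 ≤ 3 by omega) (dia hF ω hω') with hd
    have hd0 : act d (bas 0) = ω • bas 0 := act_blk_line _ _ (dia_bas0 _ _) _ _ (by simp) (by simp)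
    have hd1 : act d (bas 1) = ω ^ q • bas 1 := act_blk_line _ _ (dia_bas1 _ _) _ _ (by simp) (by simp)
    have hd2 : act d (bas 2) = bas 2 := blk_off _ _ _ _ (Or.inr (by simp))
    have hdi1 : act d⁻¹ (bas 1) = ω • bas 1 := by
      have e := congrArg (act d⁻¹) (congrArg (fun v => ω • v) hd1)
      simp only [act_smul, act_inv, smul_smul, hω', one_smul] at e
      exact e.symm
    have hdi0 : act d⁻¹ (bas 0) = ω ^ q • bas 0 := by
      have e := congrArg (act d⁻¹) (congrArg (fun v => ω ^ q • v) hd0)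
      simp only [act_smul, act_inv, smul_smul, mul_comm (ω ^ q), hω', one_smul] at e
      exact e.symm
    obtain ⟨y', hy'⟩ : d * blk hF 1 (show 1 + 2 ≤ 3 by omega) y * d⁻¹ ∈
        (blk hF 1 (show 1 + 2 ≤ 3 by omega)).range := mem_range_blk _ fun j hj => by
      rw [show j = 0 from Fin.ext (by rw [Fin.val_zero]; omega), act_mul, act_mul, hdi0, act_smul,
        blk_off 1 _ y _ (Or.inl (by simp)), act_smul, hd0, smul_smul, mul_comm, hω', one_smul]
    -- the image of the conjugate is diagonal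
    set g := blk hF 0 (show 0 + 2 ≤ 3 by omega) (α y') with hg
    set x := blk hF 1 (show 1 + 2 ≤ 3 by omega) (w2 hF) with hx
    set h := blk hF 0 (show 0 + 2 ≤ 3 by omega) (dia hF l hl) with hh
    obtain ⟨x', hx'⟩ : h * x * h⁻¹ ∈ (blk hF 1 (show 1 + 2 ≤ 3 by omega)).range := mem_range_blk _ fun j hj => by
      have h0 : act h (bas 0) = l • bas 0 := act_blk_line _ _ (dia_bas0 _ _) _ _ (by simp) (by simp)
      have hi0 : act h⁻¹ (bas 0) = l ^ q • bas 0 := by
        have e := congrArg (act h⁻¹) (congrArg (fun v => l ^ q • v) h0)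
        simp only [act_smul, act_inv, smul_smul, mul_comm (l ^ q), hl, one_smul] at e
        exact e.symm
      rw [show j = 0 from Fin.ext (by rw [Fin.val_zero]; omega), act_mul, act_mul, hi0, act_smul,
        blk_off 1 _ _ _ (Or.inl (by simp)), act_smul, h0, smul_smul, mul_comm, hl, one_smul]
    have hcomm : ∀ c : Cfsg.SU 2 F q, φ d * ψ (blk hF 1 (by omega) c) = ψ (blk hF 1 (by omega) c) * φ d := fun c =>
      hAC _ (hφ.2.1 ▸ ⟨_, rfl⟩) _ (hψ.2.2 ▸ ⟨c, rfl⟩)
    have eg : ψ g = φ d * ψ h * (φ d)⁻¹ := by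
      have e : φ (blk hF 1 (by omega) y) = ψ h := by rw [← hα, hy, MulEquiv.apply_symm_apply]
      rw [hg, hα, hy', map_mul, map_mul, map_inv, e]
    have hker : (blk hF 1 (by omega) x')⁻¹ * (g * x * g⁻¹) ∈ ψ.ker := by
      rw [MonoidHom.mem_ker, map_mul, map_inv, map_mul, map_mul, map_inv, eg, inv_mul_eq_one]
      calc ψ (blk hF 1 (by omega) x') = φ d * ψ (blk hF 1 (by omega) x') * (φ d)⁻¹ := by
            rw [hcomm, mul_inv_cancel_right]
        _ = φ d * (ψ h * ψ x * (ψ h)⁻¹) * (φ d)⁻¹ := by rw [hx', map_mul, map_mul, map_inv]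
        _ = φ d * ψ h * (φ d)⁻¹ * ψ x * (φ d * ψ h * (φ d)⁻¹)⁻¹ := by
            have e : (φ d)⁻¹ * ψ x * φ d = ψ x := by rw [mul_assoc, hx, ← hcomm, inv_mul_cancel_left]
            simp only [_root_.mul_inv_rev, inv_inv, mul_assoc] at e ⊢
            rw [← mul_assoc (ψ x) (φ d), ← mul_assoc (φ d)⁻¹ (ψ x * φ d), e]
    have hz := hψ.1 hker
    set z := (blk hF 1 (show 1 + 2 ≤ 3 by omega) x')⁻¹ * (g * x * g⁻¹) with hzdef
    have hz0 : act z (bas 0) = (act z (bas 0)) 0 • bas 0 := by
      set v := act z (bas 0) with hv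
      set b := blk hF 1 (show 1 + 2 ≤ 3 by omega) (dia hF ω hω') with hb
      have hbv : act b v = v := by
        rw [hv, ← act_mul, Subgroup.mem_center_iff.mp hz b, act_mul, hb, blk_off 1 _ _ _ (Or.inl (by simp))]
      have hb1 : act b (bas 1) = ω • bas 1 := act_blk_line _ _ (dia_bas0 _ _) _ _ (by simp) (by simp)
      have hb2 : act b (bas 2) = ω ^ q • bas 2 := act_blk_line _ _ (dia_bas1 _ _) _ _ (by simp) (by simp)
      have v1 : v 1 = 0 := by
        have e := h_act b v (bas 1)
        rw [hbv, hb1, herm_smul_right hF, h_bas_right _ _ hq] at e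
        by_contra hne
        exact hω1 (q_inj hF (by rw [one_pow]; exact mul_right_cancel₀ hne (by rw [one_mul]; exact e)))
      have v2 : v 2 = 0 := by
        have e := h_act b v (bas 2)
        rw [hbv, hb2, herm_smul_right hF, h_bas_right _ _ hq, pow_q_pow_q hF] at e
        by_contra hne
        exact hω1 (mul_right_cancel₀ hne (by rw [one_mul]; exact e))
      funext i
      fin_cases i <;> simp [v1, v2]
    have hgx : act (g * x * g⁻¹) (bas 0) = (act z (bas 0)) 0 • bas 0 := by
      rw [show g * x * g⁻¹ = blk hF 1 (by omega) x' * z by rw [hzdef, mul_inv_cancel_left], act_mul, hz0,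
        act_smul, blk_off 1 _ _ _ (Or.inl (by simp))]
      simp
    set ζ := (act z (bas 0)) 0
    set P' := mat ((α y')⁻¹) 0 0 with hP'
    set R' := mat ((α y')⁻¹) 1 0 with hR'
    have hgi : act g⁻¹ (bas 0) = P' • bas 0 + R' • bas 1 := by
      rw [hg, ← map_inv]
      refine act_blk_two _ _ (a := 0) (b := 0) (b' := 1) ?_ _ _ _ (by simp) (by simp) (by simp)
      conv_lhs => rw [su2_shape (hF := hF) (α y')⁻¹, mk2_bas0]
    have hR0 : R' = 0 := by
      have e := congrArg (fun v => act g⁻¹ v 2) hgx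
      simp only [act_mul, act_inv, act_smul, hgi] at e
      rw [hx] at e
      simp only [act, mulVec_add, mulVec_smul] at e
      change (P' • act _ (bas 0) + R' • act _ (bas 1) : Fin 3 → F) 2 = _ at e
      rw [blk_off 1 _ _ _ (Or.inl (by simp)), Amalgam.w1_bas1] at e
      simpa using e
    have hdiag : ∃ b, ∃ (hb : b * b ^ q = 1), α y' = dia hF b hb := by
      have hn := su2_entries hF (α y')⁻¹
      rw [← hP', ← hR', hR0, zero_mul, add_zero] at hn
      have e : (α y')⁻¹ = dia hF P' hn := by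
        refine ext_mat ?_
        rw [congrArg mat (su2_shape (hF := hF) (α y')⁻¹), dia, mat_mk2, mat_mk2]
        simp [← hP', ← hR', hR0]
      exact ⟨_, norm_conj hF hn, by rw [← dia_inv P' hn, ← e, inv_inv]⟩
    obtain ⟨b, hb, hb'⟩ := hdiag
    have hyy : y * y' = y' * y := α.injective (by
      rw [map_mul, map_mul, hb', hy, MulEquiv.apply_symm_apply, dia_mul, dia_mul]
      congr 1
      exact mul_comm _ _)
    -- the entries of the conjugate
    have hy1 : act (blk hF 1 (show 1 + 2 ≤ 3 by omega) y) (bas 1) = p • bas 1 + r • bas 2 :=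
      act_blk_two _ _ (a := 0) (b := 0) (b' := 1) (by conv_lhs => rw [hys, mk2_bas0]) _ _ _ (by simp) (by simp)
        (by simp)
    have hy1' : act (blk hF 1 (show 1 + 2 ≤ 3 by omega) y') (bas 1) = p • bas 1 + (ω * r) • bas 2 := by
      rw [hy', act_mul, act_mul, hdi1, act_smul, hy1, act_smul, act, mulVec_add, mulVec_smul, mulVec_smul]
      change ω • (p • act d (bas 1) + r • act d (bas 2)) = _
      rw [hd1, hd2, smul_add, smul_smul, smul_smul, smul_smul]
      congr 2
      linear_combination p * hω'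
    have y00 : mat y' 0 0 = p := by
      rw [← blk_entry hF (show 1 + 2 ≤ 3 by omega) y' 0 0, mat_eq_act,
        show sh 1 (show 1 + 2 ≤ 3 by omega) (0 : Fin 2) = (1 : Fin 3) from rfl, hy1']
      simp
    have y10 : mat y' 1 0 = ω * r := by
      rw [← blk_entry hF (show 1 + 2 ≤ 3 by omega) y' 1 0, mat_eq_act,
        show sh 1 (show 1 + 2 ≤ 3 by omega) (0 : Fin 2) = (1 : Fin 3) from rfl, hy1',
        show sh 1 (show 1 + 2 ≤ 3 by omega) (1 : Fin 2) = (2 : Fin 3) from rfl]
      simp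
    have e00 := congrArg (fun z => mat z 0 0) hyy
    simp only [mat_mul] at e00
    rw [congrArg mat hys, congrArg mat (su2_shape (hF := hF) y'), mat_mk2, mat_mk2, y00, y10, ← hp, ← hr] at e00
    simp [Matrix.mul_apply, Fin.sum_univ_two, mul_pow] at e00
    have e3 : (ω ^ q - ω) * (r * r ^ q) = 0 := by linear_combination -e00
    rcases mul_eq_zero.mp ((mul_eq_zero.mp e3).resolve_left (sub_ne_zero.mpr hωq)) with e | e
    · exact e
    · exact (pow_eq_zero_iff hq).mp e
  choose f hf1 hf2 using back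
  let f' : {c : F // c * c ^ q = 1} → {c : F // c * c ^ q = 1} := fun c => ⟨f c.1 c.2, hf1 c.1 c.2⟩
  have finj : Function.Injective f' := fun c e hce => by
    have h1 := hf2 c.1 c.2
    have h2 := hf2 e.1 e.2
    have hfe : f c.1 c.2 = f e.1 e.2 := congrArg Subtype.val hce
    have h3 : dia hF c.1 c.2 = dia hF e.1 e.2 := α.symm.injective (by
      rw [h1, h2]; congr 1)
    have h4 := congrArg (fun z => mat z 0 0) h3
    simp [dia, mat_mk2] at h4
    exact Subtype.ext h4
  obtain ⟨⟨b, hb⟩, hfb⟩ := Finite.surjective_of_injective finj ⟨a, ha⟩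
  refine ⟨b, hb, ?_⟩
  have e := hf2 b hb
  have hfb' : f b hb = a := congrArg Subtype.val hfb
  rw [← α.apply_symm_apply (dia hF b hb), e]
  congr 1
  subst hfb'
  rfl

/-- The next identification can be normalised. -/
theorem exists_next (hF : Fintype.card F = q ^ 2) (hq : 3 < q) {φ ψ : Cfsg.SU 3 F q →* G} {A B C : Subgroup G}
    (hφ : GoodPair hF φ A B) (hψ : GoodPair hF ψ B C) (hAC : ∀ a ∈ A, ∀ c ∈ C, a * c = c * a) :
    ∃ φ' : Cfsg.SU 3 F q →* G, GoodPair hF φ' B C ∧ φ'.range = ψ.range ∧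
      ∀ x : Cfsg.SU 2 F q, φ' (blk hF 0 (by omega) x) = φ (blk hF 1 (by omega) x) := by
  classical
  set f := φ.comp (blk hF 1 (show 1 + 2 ≤ 3 by omega)) with hf
  set g := ψ.comp (blk hF 0 (show 0 + 2 ≤ 3 by omega)) with hg
  have hr : f.range = g.range := hφ.2.2.trans hψ.2.1.symm
  have hg' : Function.Injective g := hψ.injective _
  let α : MulAut (Cfsg.SU 2 F q) := (MonoidHom.ofInjective (hφ.injective (show 1 + 2 ≤ 3 by omega))).trans
    ((MulEquiv.subgroupCongr hr).trans (MonoidHom.ofInjective hg').symm)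
  have hα : ∀ x, ψ (blk hF 0 (by omega) (α x)) = φ (blk hF 1 (by omega) x) := fun x =>
    congrArg Subtype.val ((MonoidHom.ofInjective hg').apply_symm_apply _)
  obtain ⟨τ, m, hm, hτm⟩ := exists_aut_two hF hq α (torus_stable hF hφ hψ hAC α hα)
  have hd : ∀ i, (![1, m, m] : Fin 3 → F) i * (![1, m, m] : Fin 3 → F) i ^ q = 1 := fun i => by
    fin_cases i <;> simp [hm]
  set S := semi hF τ ![1, m, m] hd with hS
  have hSb : Function.Bijective S :=
    ⟨semi_injective _ _ _ _, Finite.surjective_of_injective (semi_injective _ _ _ _)⟩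
  have h0 : ∀ y, S (blk hF 0 (by omega) y) = blk hF 0 (by omega) (α y) := fun y => by
    obtain ⟨z, hz⟩ : S (blk hF 0 (show 0 + 2 ≤ 3 by omega) y) ∈ (blk hF 0 (show 0 + 2 ≤ 3 by omega)).range :=
      mem_range_blk _ fun j hj => semi_fix _ _ _ _ (blk_off _ _ _ _ (by omega))
    rw [← hz]
    congr 1
    obtain ⟨t0, t1⟩ := hτm y
    have c0 : (0 : Fin 3) = sh 0 (show 0 + 2 ≤ 3 by omega) (0 : Fin 2) := rfl
    have c1 : (1 : Fin 3) = sh 0 (show 0 + 2 ≤ 3 by omega) (1 : Fin 2) := rfl
    have z0 : mat z 0 0 = mat (α y) 0 0 := by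
      rw [← blk_entry hF (show 0 + 2 ≤ 3 by omega) z 0 0, hz, hS, mat_semi, blk_entry, t0, ← c0]
      simp
    have z1 : mat z 1 0 = mat (α y) 1 0 := by
      rw [← blk_entry hF (show 0 + 2 ≤ 3 by omega) z 1 0, hz, hS, mat_semi, blk_entry, t1, ← c0, ← c1]
      simp
    refine ext_mat ?_
    rw [congrArg mat (su2_shape (hF := hF) z), congrArg mat (su2_shape (hF := hF) (α y)), mat_mk2, mat_mk2, z0, z1]
  have hker : (ψ.comp S).ker ≤ Subgroup.center _ := fun x hx => Subgroup.mem_center_iff.mpr fun y =>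
    hSb.1 (by rw [map_mul, map_mul]; exact Subgroup.mem_center_iff.mp (hψ.1 hx) (S y))
  refine ⟨ψ.comp S, ⟨hker, ?_, ?_⟩, ?_, fun x => ?_⟩
  · rw [← hψ.2.1]
    ext v
    constructor
    · rintro ⟨y, rfl⟩; exact ⟨α y, congrArg ψ (h0 y).symm⟩
    · rintro ⟨y, rfl⟩
      exact ⟨α.symm y, by
        show ψ (S (blk hF 0 _ (α.symm y))) = _
        rw [h0, MulEquiv.apply_symm_apply]; rfl⟩
  · have hle : ((ψ.comp S).comp (blk hF 1 (show 1 + 2 ≤ 3 by omega))).range ≤ C := by
      rintro _ ⟨y, rfl⟩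
      obtain ⟨z, hz⟩ : S (blk hF 1 (show 1 + 2 ≤ 3 by omega) y) ∈ (blk hF 1 (show 1 + 2 ≤ 3 by omega)).range :=
        mem_range_blk _ fun j hj => semi_fix _ _ _ _ (blk_off _ _ _ _ (by omega))
      exact hψ.2.2 ▸ ⟨z, congrArg ψ hz⟩
    have hi1 : Function.Injective ((ψ.comp S).comp (blk hF 1 (show 1 + 2 ≤ 3 by omega))) :=
      (injective_iff_map_eq_one _).mpr fun x hx => blk_center hF _ x (hker hx)
    refine SetLike.coe_injective ?_
    haveI : Finite C := Finite.of_equiv _ ((MonoidHom.ofInjective (hψ.injective (show 1 + 2 ≤ 3 by omega))).trans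
      (MulEquiv.subgroupCongr hψ.2.2)).toEquiv
    refine Set.eq_of_subset_of_ncard_le hle ?_ (Set.toFinite _)
    rw [← hψ.2.2]
    rw [MonoidHom.coe_range, MonoidHom.coe_range, Set.ncard_range_of_injective hi1,
      Set.ncard_range_of_injective (hψ.injective _)]
  · rw [MonoidHom.range_comp, MonoidHom.range_eq_top.mpr hSb.2, ← MonoidHom.range_eq_map]
  · show ψ (S (blk hF 0 _ x)) = _
    rw [h0, hα]

end Cfsg.Agent.Lib.Phan
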