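import Cfsg.Agent.Lib.Phan.Fix

/-!
Two torus-carrying `SU₂(q)`-subgroups generating `SU₃(q)` form a standard pair.
-/

set_option autoImplicit false

namespace Cfsg.Agent.Lib.Phan

open Matrix Cfsg.Agent.Lib.Forms Cfsg.Agent.Lib.UnitaryMax

variable {F : Type*} [Field F] [Fintype F] {q : ℕ}

/-- An embedded `SU₂` with a torus fixes the unique fixed line of the torus. -/
theorem exists_fixed (hF : Fintype.card F = q ^ 2) (hq : 3 < q) (f : Cfsg.SU 2 F q →* Cfsg.SU 3 F q)
    (hf : Function.Injective f) (a : Cfsg.SU 2 F q) (ha : a ^ (q + 1) = 1) (ha2 : a * a ≠ 1) :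
    ∃ u : Fin 3 → F, Cfsg.hermForm 3 F q u u = 1 ∧ (∀ x, act (f x) u = u) ∧
      ∀ v, act (f a) v = v → ∃ c : F, v = c • u := by
  have hq0 := q_ne_zero hF
  obtain ⟨g, l, hl, hgl⟩ := exists_conj_dia hF a ha
  set f₁ : Cfsg.SU 2 F q →* Cfsg.SU 3 F q := f.comp (MulAut.conj g).toMonoidHom with hf₁
  have hf₁i : Function.Injective f₁ := hf.comp (MulAut.conj g).injective
  have hf₁d : f₁ (dia hF l hl) = f a := by
    show f (g * dia hF l hl * g⁻¹) = f a
    rw [← hgl]; congr 1; group
  have hw : w2 hF * dia hF l hl = (dia hF l hl)⁻¹ * w2 hF := by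
    rw [dia_inv]
    refine ext_mat ?_
    rw [mat_mul, mat_mul, dia, dia, w2, mat_mk2, mat_mk2, mat_mk2]
    ext i j
    fin_cases i <;> fin_cases j <;>
      simp [Matrix.mul_apply, Fin.sum_univ_two, q_zero hF, pow_q_pow_q hF, q_neg hF]
  obtain ⟨h, b, hb, hb2, hbM⟩ := exists_torus_form hF (f₁ (dia hF l hl)) (f₁ (w2 hF))
    (by rw [hf₁d, ← map_pow, ha, map_one]) (by rw [← map_mul, hw, map_mul, map_inv])
    (by rw [hf₁d, ← map_mul]; exact fun e => ha2 (hf (e.trans (map_one f).symm)))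
  set f₂ : Cfsg.SU 2 F q →* Cfsg.SU 3 F q := (MulAut.conj h⁻¹).toMonoidHom.comp f₁ with hf₂
  have hfix := fix_two hF hq f₂ ((MulAut.conj h⁻¹).injective.comp hf₁i) l b hl hb hb2
    (by show h⁻¹ * f₁ (dia hF l hl) * h⁻¹⁻¹ = _; rw [inv_inv]; exact hbM)
  refine ⟨act h (bas 2), by rw [h_act, h_bas_right _ _ hq0, bas, Pi.single_eq_same], fun x => ?_, fun v hv => ?_⟩
  · have e := congrArg (act h) (hfix (g⁻¹ * x * g))
    change act h (act (h⁻¹ * f₁ (g⁻¹ * x * g) * h⁻¹⁻¹) (bas 2)) = act h (bas 2) at e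
    rw [inv_inv, act_mul, act_mul, act_inv'] at e
    have e' : f₁ (g⁻¹ * x * g) = f x := by
      show f (g * (g⁻¹ * x * g) * g⁻¹) = f x
      congr 1; group
    rwa [e'] at e
  · set w := act h⁻¹ v with hw
    have hvw : act h w = v := act_inv' _ _
    have hMw : act (blk hF 0 (show 0 + 2 ≤ 3 by omega) (dia hF b hb)) w = w := by
      rw [← hbM, act_mul, act_mul, hvw, hf₁d, hv]
    refine ⟨w 2, ?_⟩
    have z : ∀ (j : Fin 3) (e : F), e ≠ 1 →
        act (blk hF 0 (show 0 + 2 ≤ 3 by omega) (dia hF b hb)) (bas j) = e • bas j → w j = 0 := fun j e he hj => by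
      have h1 := h_act (blk hF 0 (show 0 + 2 ≤ 3 by omega) (dia hF b hb)) w (bas j)
      rw [hMw, hj, herm_smul_right hF, h_bas_right _ _ hq0] at h1
      by_contra h0
      exact he (q_inj hF (by rw [one_pow]; exact mul_right_cancel₀ h0 (by rw [one_mul]; exact h1)))
    have hb1 : b ≠ 1 := fun e => hb2 (by rw [e, one_mul])
    have hbq : b ^ q ≠ 1 := fun e => hb1 (q_inj hF (by rw [e, one_pow]))
    have w0 := z 0 b hb1 (act_blk_line _ _ (dia_bas0 _ _) _ _ (by simp) (by simp))
    have w1 := z 1 _ hbq (act_blk_line _ _ (dia_bas1 _ _) _ _ (by simp) (by simp))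
    have hwe : w = w 2 • bas 2 := by
      funext i
      fin_cases i <;> simp [w0, w1]
    rw [← act_smul, ← hwe, hvw]

/-- Standard pairs from commuting tori. -/
theorem isStandard_of_tori {G : Type*} [Group G] (hF : Fintype.card F = q ^ 2) (hq : 3 < q) (A B : Subgroup G)
    (eA : Cfsg.SU 2 F q ≃* A) (eB : Cfsg.SU 2 F q ≃* B) (χ : (A ⊔ B : Subgroup G) ≃* Cfsg.SU 3 F q)
    (dA : A) (dB : B) (hA : orderOf dA = q + 1) (hB : orderOf dB = q + 1)
    (hcomm : (dA : G) * dB = dB * dA) : Cfsg.IsStandardUnitaryPair (A ⊔ B : Subgroup G) A B F q := by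
  classical
  have hq0 := q_ne_zero hF
  set V := A ⊔ B
  have hAV : A ≤ V := le_sup_left
  have hBV : B ≤ V := le_sup_right
  set fA : Cfsg.SU 2 F q →* Cfsg.SU 3 F q :=
    χ.toMonoidHom.comp ((Subgroup.inclusion hAV).comp eA.toMonoidHom) with hfA
  set fB : Cfsg.SU 2 F q →* Cfsg.SU 3 F q :=
    χ.toMonoidHom.comp ((Subgroup.inclusion hBV).comp eB.toMonoidHom) with hfB
  have iA : Function.Injective fA := χ.injective.comp ((Subgroup.inclusion_injective hAV).comp eA.injective)
  have iB : Function.Injective fB := χ.injective.comp ((Subgroup.inclusion_injective hBV).comp eB.injective)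
  have ord : ∀ {H : Subgroup G} (e : Cfsg.SU 2 F q ≃* H) (d : H), orderOf d = q + 1 →
      (e.symm d) ^ (q + 1) = 1 ∧ e.symm d * e.symm d ≠ 1 := by
    intro H e d hd
    have ho : orderOf (e.symm d) = q + 1 := by rw [MulEquiv.orderOf_eq, hd]
    refine ⟨by rw [← ho]; exact pow_orderOf_eq_one _, fun h2 => ?_⟩
    have := Nat.le_of_dvd two_pos (orderOf_dvd_of_pow_eq_one (x := e.symm d) (n := 2) (by rw [pow_two]; exact h2))
    omega
  obtain ⟨uA, hA1, hAfix, hAline⟩ := exists_fixed hF hq fA iA (eA.symm dA) (ord eA dA hA).1 (ord eA dA hA).2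
  obtain ⟨uB, hB1, hBfix, hBline⟩ := exists_fixed hF hq fB iB (eB.symm dB) (ord eB dB hB).1 (ord eB dB hB).2
  set MA := fA (eA.symm dA) with hMA
  set MB := fB (eB.symm dB) with hMB
  have hMM : MB * MA = MA * MB := by
    show χ (Subgroup.inclusion hBV (eB (eB.symm dB))) * χ (Subgroup.inclusion hAV (eA (eA.symm dA))) = _
    rw [← map_mul]
    show _ = χ (Subgroup.inclusion hAV (eA (eA.symm dA))) * χ (Subgroup.inclusion hBV (eB (eB.symm dB)))
    rw [← map_mul, MulEquiv.apply_symm_apply, MulEquiv.apply_symm_apply]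
    exact congrArg χ (Subtype.ext hcomm.symm)
  obtain ⟨c, hc⟩ := hBline (act MA uB) (by rw [← act_mul, hMM, act_mul, hMB, hBfix])
  have hfixV : ∀ (g : V) (u : Fin 3 → F), (∀ x, act (fA x) u = u) → (∀ x, act (fB x) u = u) →
      act (χ g) u = u := by
    intro g u h1 h2
    let S : Subgroup V :=
      { carrier := {g | act (χ g) u = u}
        one_mem' := by simp [act_one]
        mul_mem' := fun {x y} (hx : act (χ x) u = u) (hy : act (χ y) u = u) => by
          show act (χ (x * y)) u = u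
          rw [map_mul, act_mul, hy, hx]
        inv_mem' := fun {x} (hx : act (χ x) u = u) => by
          show act (χ x⁻¹) u = u
          conv_lhs => rw [← hx]
          rw [map_inv, act_inv] }
    have hle : V ≤ S.map V.subtype := sup_le
      (fun y hy => ⟨⟨y, hAV hy⟩, by
        obtain ⟨x, hx⟩ := eA.surjective ⟨y, hy⟩
        have := h1 x
        change act (χ (Subgroup.inclusion hAV (eA x))) u = u at this
        rw [hx] at this
        exact this, rfl⟩)
      (fun y hy => ⟨⟨y, hBV hy⟩, by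
        obtain ⟨x, hx⟩ := eB.surjective ⟨y, hy⟩
        have := h2 x
        change act (χ (Subgroup.inclusion hBV (eB x))) u = u at this
        rw [hx] at this
        exact this, rfl⟩)
    obtain ⟨g', hg', e⟩ := hle g.2
    exact (Subtype.ext e : g' = g) ▸ hg'
  have hc1 : c ≠ 1 := by
    intro e
    rw [e, one_smul] at hc
    obtain ⟨k, hk⟩ := hAline uB hc
    have hall : ∀ x : Cfsg.SU 3 F q, act x uA = uA := fun x => by
      obtain ⟨g, rfl⟩ := χ.surjective x
      refine hfixV g uA hAfix fun y => ?_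
      have hk0 : k ≠ 0 := fun e0 => by
        rw [hk, e0, zero_smul, h_zero_left hF] at hB1; exact zero_ne_one hB1
      have h1 := hBfix y
      rw [hk, act_smul] at h1
      exact smul_right_injective _ hk0 h1
    obtain ⟨ω, hω, hω1, -, hωq⟩ := exists_omega hF
    have hω' : ω * ω ^ q = 1 := by simpa [normOne] using hω
    have hz : ∀ (o : ℕ) (ho : o + 2 ≤ 3) (j : Fin 3) (e : F), e ≠ 1 →
        act (blk hF o ho (dia hF ω hω')) (bas j) = e • bas j → uA j = 0 := fun o ho j e he hj => by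
      have h1 := h_act (blk hF o ho (dia hF ω hω')) uA (bas j)
      rw [hall, hj, herm_smul_right hF, h_bas_right _ _ hq0] at h1
      by_contra h0
      exact he (q_inj hF (by rw [one_pow]; exact mul_right_cancel₀ h0 (by rw [one_mul]; exact h1)))
    have hωq1 : ω ^ q ≠ 1 := fun e => hω1 (q_inj hF (by rw [e, one_pow]))
    have : uA = 0 := by
      funext i
      fin_cases i
      · exact hz 0 (by omega) 0 ω hω1 (act_blk_line _ _ (dia_bas0 _ _) _ _ (by simp) (by simp))
      · exact hz 1 (by omega) 1 ω hω1 (act_blk_line _ _ (dia_bas0 _ _) _ _ (by simp) (by simp))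
      · exact hz 1 (by omega) 2 _ hωq1 (act_blk_line _ _ (dia_bas1 _ _) _ _ (by simp) (by simp))
    rw [this, h_zero_left hF] at hA1
    exact zero_ne_one hA1
  have horth : Cfsg.hermForm 3 F q uB uA = 0 := by
    have h1 := h_act MA uB uA
    rw [hc, hMA, hAfix, herm_smul_left hF] at h1
    have h2 : (c - 1) * Cfsg.hermForm 3 F q uB uA = 0 := by linear_combination h1
    exact (mul_eq_zero.mp h2).resolve_left (sub_ne_zero.mpr hc1)
  obtain ⟨g, hg0, hg1⟩ := exists_frame hF hB1 hA1 horth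
  set σ := g * blk hF 1 (show 1 + 2 ≤ 3 by omega) (w2 hF) with hσ
  have s0 : act σ (bas 0) = uB := by rw [hσ, act_mul, Amalgam.w1_bas0, hg0]
  have s2 : act σ (bas 2) = uA := by
    rw [hσ, act_mul, act_blk_line (a := 1) (b := 0) _ _ w2_bas1 (2 : Fin 3) 1 (by simp) (by simp), one_smul, hg1]
  let ψ : Cfsg.SU 3 F q ≃* V := (MulAut.conj σ).trans χ.symm
  refine Or.inl ⟨ψ, ?_⟩
  have key : ∀ (o : ℕ) (ho : o + 2 ≤ 3) (H : Subgroup G) (hH : H ≤ V) (e : Cfsg.SU 2 F q ≃* H) (i : Fin 3),
      (∀ j : Fin 3, (j : ℕ) < o ∨ o + 2 ≤ j → j = i) →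
      (∀ x, act (χ (Subgroup.inclusion hH (e x))) (act σ (bas i)) = act σ (bas i)) →
      (blk hF o ho).range.map (V.subtype.comp ψ.toMonoidHom) = H := by
    intro o ho H hH e i hi hx
    have hmem : ∀ y : H, (y : G) ∈ (blk hF o ho).range.map (V.subtype.comp ψ.toMonoidHom) := fun y => by
      obtain ⟨x, rfl⟩ := e.surjective y
      refine ⟨σ⁻¹ * χ (Subgroup.inclusion hH (e x)) * σ, mem_range_blk ho fun j hj => ?_, ?_⟩
      · rw [hi j hj, act_mul, act_mul, hx, act_inv]
      · show ((χ.symm (σ * (σ⁻¹ * χ (Subgroup.inclusion hH (e x)) * σ) * σ⁻¹) : V) : G) = _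
        rw [show σ * (σ⁻¹ * χ (Subgroup.inclusion hH (e x)) * σ) * σ⁻¹ = χ (Subgroup.inclusion hH (e x)) by group,
          MulEquiv.symm_apply_apply]
        rfl
    refine (SetLike.coe_injective (Set.eq_of_subset_of_ncard_le (fun y hy => hmem ⟨y, hy⟩) ?_ ?_)).symm
    · rw [MonoidHom.map_range, MonoidHom.coe_range,
        Set.ncard_range_of_injective (show Function.Injective ((V.subtype.comp ψ.toMonoidHom).comp (blk hF o ho)) from
          (Subtype.val_injective.comp ψ.injective).comp inc_injective)]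
      exact le_of_eq (Nat.card_congr e.toEquiv)
    · rw [MonoidHom.map_range, MonoidHom.coe_range]
      exact Set.finite_range _
  have b0 : Cfsg.suBlock 3 F q {0, 1} = (blk hF 0 (show 0 + 2 ≤ 3 by omega)).range :=
    suBlock_eq_range hF _ _ fun i => by fin_cases i <;> simp
  have b1 : Cfsg.suBlock 3 F q {1, 2} = (blk hF 1 (show 1 + 2 ≤ 3 by omega)).range :=
    suBlock_eq_range hF _ _ fun i => by fin_cases i <;> simp
  rw [b0, b1]
  refine ⟨key 0 _ A hAV eA 2 (fun j hj => Fin.ext (by simp; omega)) fun x => ?_,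
    key 1 _ B hBV eB 0 (fun j hj => Fin.ext (by simp; omega)) fun x => ?_⟩
  · rw [s2]; exact hAfix x
  · rw [s0]; exact hBfix x

end Cfsg.Agent.Lib.Phan
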