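import Cfsg.Agent.Lib.Phan.Rigid

/-!
Subgroups of `SU₃(q)` isomorphic to `SU₂(q)` that contain a torus fix an anisotropic vector.
-/

set_option autoImplicit false

namespace Cfsg.Agent.Lib.Phan

open Matrix Cfsg.Agent.Lib.Forms Cfsg.Agent.Lib.UnitaryMax Polynomial

variable {F : Type*} [Field F] [Fintype F] {q N : ℕ}

section Eigen

local notation "h" => Cfsg.hermForm N F q
local notation "Vs" => (Fin N → F)

omit [Fintype F] in
theorem act_pow_eigen (M : Cfsg.SU N F q) {v : Vs} {c : F} (hv : act M v = c • v) (k : ℕ) :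
    act (M ^ k) v = c ^ k • v := by
  induction k with
  | zero => rw [pow_zero, act_one, pow_zero, one_smul]
  | succ k ih => rw [pow_succ, act_mul, hv, act_smul, ih, smul_smul, pow_succ, mul_comm]

omit [Fintype F] in
theorem act_sum {ι : Type*} (M : Cfsg.SU N F q) (s : Finset ι) (f : ι → Vs) :
    act M (∑ i ∈ s, f i) = ∑ i ∈ s, act M (f i) := Matrix.mulVec_sum _ _ _

/-- An element of exponent `q + 1` has an anisotropic eigenvector in any nondegenerate complement. -/
theorem exists_unit_eigen (hF : Fintype.card F = q ^ 2) (M : Cfsg.SU N F q) (hM : M ^ (q + 1) = 1) {k : ℕ}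
    (v : Fin k → Vs) (c : Fin k → F) (hv : ∀ j, act M (v j) = c j • v j) (hv1 : ∀ j, h (v j) (v j) = 1)
    (x : Vs) (hx : h x x ≠ 0) (hxv : ∀ j, h x (v j) = 0) :
    ∃ (u : Vs) (ω : F), ω * ω ^ q = 1 ∧ h u u = 1 ∧ act M u = ω • u ∧ ∀ j, h u (v j) = 0 := by
  classical
  let X : F → Vs := fun ω => ∑ i ∈ Finset.range (q + 1), (ω ^ q) ^ i • act (M ^ i) x
  let L : Vs → (Vs →+ F) := fun w => AddMonoidHom.mk' (fun y => h y w) fun a b => herm_add_left hF a b w
  have eig : ∀ ω : F, ω * ω ^ q = 1 → act M (X ω) = ω • X ω := by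
    intro ω hω
    have hper : (ω ^ q) ^ (q + 1) • act (M ^ (q + 1)) x = (ω ^ q) ^ 0 • act (M ^ 0) x := by
      have e : (ω ^ q) ^ (q + 1) = 1 := by rw [pow_succ, pow_q_pow_q hF, hω]
      rw [e, hM, pow_zero, pow_zero]
    have e1 := Finset.sum_range_succ (fun i => (ω ^ q) ^ i • act (M ^ i) x) (q + 1)
    have e2 := Finset.sum_range_succ' (fun i => (ω ^ q) ^ i • act (M ^ i) x) (q + 1)
    rw [hper] at e1
    have e3 : X ω = ∑ i ∈ Finset.range (q + 1), (ω ^ q) ^ (i + 1) • act (M ^ (i + 1)) x :=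
      add_right_cancel (e1.symm.trans e2)
    conv_rhs => rw [e3]
    rw [act_sum, Finset.smul_sum]
    refine Finset.sum_congr rfl fun i _ => ?_
    rw [act_smul, smul_smul, pow_succ' (ω ^ q), ← mul_assoc, hω, one_mul, pow_succ' M, act_mul]
  have orth : ∀ ω j, h (X ω) (v j) = 0 := by
    intro ω j
    show L (v j) (X ω) = 0
    rw [map_sum]
    refine Finset.sum_eq_zero fun i _ => ?_
    show h ((ω ^ q) ^ i • act (M ^ i) x) (v j) = 0
    have e := h_act (M ^ i) x (v j)
    rw [act_pow_eigen M (hv j), hxv j, herm_smul_right hF] at e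
    have hc : c j ≠ 0 := fun e0 => by
      have e' := h_act M (v j) (v j)
      rw [hv j, herm_smul_left hF, e0, zero_mul, hv1 j] at e'
      exact zero_ne_one e'
    rw [herm_smul_left hF, (mul_eq_zero.mp e).resolve_left (pow_ne_zero _ (pow_ne_zero _ hc)), mul_zero]
  have hqF : ((q + 1 : ℕ) : F) = 1 := by
    have h0 := Nat.cast_card_eq_zero F
    rw [hF, Nat.cast_pow] at h0
    push_cast
    rw [(pow_eq_zero_iff two_ne_zero).mp h0, zero_add]
  have hsum : ∑ ω ∈ normOne q F, X ω = x := by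
    rw [Finset.sum_comm, Finset.sum_eq_single 0]
    · simp only [pow_zero, act_one, one_smul, Finset.sum_const, card_normOne hF]
      rw [← Nat.cast_smul_eq_nsmul F, hqF, one_smul]
    · intro i hi hi0
      rw [← Finset.sum_smul]
      suffices hs : ∑ ω ∈ normOne q F, (ω ^ q) ^ i = 0 by rw [hs, zero_smul]
      obtain ⟨ω₀, hω₀, hne⟩ : ∃ ω₀ ∈ normOne q F, (ω₀ ^ q) ^ i ≠ 1 := by
        by_contra hall
        push Not at hall
        have hsub : normOne q F ⊆ (nthRoots i (1 : F)).toFinset := fun ω hω => by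
          have hω' : ω * ω ^ q = 1 := by simpa [normOne] using hω
          rw [Multiset.mem_toFinset, mem_nthRoots (by omega)]
          have e := hall _ (normOne_conj hF hω)
          rwa [pow_q_pow_q hF] at e
        have h1 := (Finset.card_le_card hsub).trans
          ((Multiset.toFinset_card_le _).trans (card_nthRoots i (1 : F)))
        rw [card_normOne hF] at h1
        have := Finset.mem_range.mp hi
        omega
      have hsh : ∑ ω ∈ normOne q F, ((ω₀ * ω) ^ q) ^ i = ∑ ω ∈ normOne q F, (ω ^ q) ^ i := by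
        refine Finset.sum_nbij' (fun ω => ω₀ * ω) (fun ω => ω₀ ^ q * ω) (fun ω hω => normOne_mul hF hω₀ hω)
          (fun ω hω => normOne_mul hF (normOne_conj hF hω₀) hω) (fun ω _ => ?_) (fun ω _ => ?_) (fun ω _ => rfl)
        all_goals
          have hω₀' : ω₀ * ω₀ ^ q = 1 := by simpa [normOne] using hω₀
        · rw [← mul_assoc, mul_comm _ ω₀, hω₀', one_mul]
        · rw [← mul_assoc, hω₀', one_mul]
      simp only [mul_pow, ← Finset.mul_sum] at hsh
      by_contra hs
      exact hne (mul_right_cancel₀ hs (hsh.trans (one_mul _).symm))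
    · simp
  obtain ⟨ω, hω, hne⟩ : ∃ ω ∈ normOne q F, h (X ω) (X ω) ≠ 0 := by
    by_contra hall
    push Not at hall
    refine hx ?_
    conv_lhs => arg 4; rw [← hsum]
    show L x (∑ ω ∈ normOne q F, X ω) = 0
    rw [map_sum]
    refine Finset.sum_eq_zero fun ω hω => ?_
    show h (X ω) x = 0
    refine (h_symm hF ?_ : h (X ω) x = 0)
    conv_lhs => arg 4; rw [← hsum]
    show L (X ω) (∑ ω' ∈ normOne q F, X ω') = 0
    rw [map_sum]
    refine Finset.sum_eq_zero fun ω' hω' => ?_
    show h (X ω') (X ω) = 0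
    by_cases e : ω' = ω
    · subst e; exact hall ω' hω'
    have h1 : ω * ω ^ q = 1 := by simpa [normOne] using hω
    have h2 : ω' * ω' ^ q = 1 := by simpa [normOne] using hω'
    have e1 := h_act M (X ω') (X ω)
    rw [eig ω h1, eig ω' h2, herm_smul_left hF, herm_smul_right hF, ← mul_assoc] at e1
    have e2 : (ω' * ω ^ q - 1) * h (X ω') (X ω) = 0 := by linear_combination e1
    refine (mul_eq_zero.mp e2).resolve_left fun e3 => e ?_
    linear_combination ω * e3 - ω' * h1
  obtain ⟨β, -, hβ⟩ := exists_scale hF hne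
  have hω' : ω * ω ^ q = 1 := by simpa [normOne] using hω
  exact ⟨β • X ω, ω, hω', hβ, by rw [act_smul, eig ω hω', smul_comm],
    fun j => by rw [herm_smul_left hF, orth, mul_zero]⟩

end Eigen

section Three

variable {hF : Fintype.card F = q ^ 2}

/-- An element of `SU₂` of order `q + 1` is conjugate to a diagonal one. -/
theorem exists_conj_dia (hF : Fintype.card F = q ^ 2) (a : Cfsg.SU 2 F q) (ha : a ^ (q + 1) = 1) :
    ∃ (g : Cfsg.SU 2 F q) (l : F) (hl : l * l ^ q = 1), g⁻¹ * a * g = dia hF l hl := by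
  have hb : Cfsg.hermForm 2 F q (bas 0) (bas 0) = (1 : F) := by
    rw [h_bas_right _ _ (q_ne_zero hF), bas, Pi.single_eq_same]
  obtain ⟨v, l, hl, hv, hav, -⟩ := exists_unit_eigen hF a ha (Fin.elim0 : Fin 0 → Fin 2 → F) Fin.elim0
    (fun j => j.elim0) (fun j => j.elim0) (bas 0) (by rw [hb]; exact one_ne_zero) fun j => j.elim0
  obtain ⟨z, hz, hzv⟩ := exists_unit_one hF (N := 2) le_rfl (a := v) (by rw [hv]; exact one_ne_zero)
  obtain ⟨g, hg⟩ := exists_unit_move hF (show 0 < 2 by omega) hv (z := z) (by rw [hz]; exact one_ne_zero)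
    (h_symm hF hzv)
  replace hg : act g (bas 0) = v := hg
  refine ⟨g, l, hl, ?_⟩
  have e : act (g⁻¹ * a * g) (bas 0) = l • bas 0 := by
    rw [act_mul, act_mul, hg, hav, act_smul, ← hg, act_inv]
  refine ext_mat ?_
  rw [congrArg mat (su2_shape (hF := hF) (g⁻¹ * a * g)), dia, mat_mk2, mat_mk2, mat_eq_act _ 0 0,
    mat_eq_act _ 1 0, e]
  simp

/-- A pair of orthonormal vectors is the image of the first two basis vectors. -/
theorem exists_frame (hF : Fintype.card F = q ^ 2) {v w : Fin 3 → F} (hv : Cfsg.hermForm 3 F q v v = 1)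
    (hw : Cfsg.hermForm 3 F q w w = 1) (hvw : Cfsg.hermForm 3 F q v w = 0) :
    ∃ g : Cfsg.SU 3 F q, act g (bas 0) = v ∧ act g (bas 1) = w := by
  obtain ⟨g, hg⟩ := exists_unit_move hF (show 0 < 3 by omega) hv (z := w) (by rw [hw]; exact one_ne_zero) hvw
  replace hg : act g (bas 0) = v := hg
  set w' := act g⁻¹ w with hw'
  have hgw : act g w' = w := act_inv' _ _
  have h0 : w' 0 = 0 := by
    rw [← h_bas_right (q := q) w' 0 (q_ne_zero hF), ← h_act g, hgw, hg]
    exact h_symm hF hvw
  obtain ⟨t, ht⟩ := exists_tail_move hF (o := 1) (k := 2) rfl le_rfl (v := w')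
    (by rw [← h_act g, hgw]; exact hw) (fun i hi => by rw [show i = 0 from Fin.ext (by simp; omega), h0]) 1 rfl
  exact ⟨g * blk hF 1 (by omega) t, by rw [act_mul, blk_off 1 _ _ _ (Or.inl (by simp)), hg],
    by rw [act_mul, ht, hgw]⟩

theorem eq_blk_dia {M : Cfsg.SU 3 F q} {a : F} (ha : a * a ^ q = 1) (h0 : act M (bas 0) = a • bas 0)
    (h1 : act M (bas 1) = a ^ q • bas 1) (h2 : act M (bas 2) = bas 2) :
    M = blk hF 0 (by omega) (dia hF a ha) := by
  refine ext_bas fun j => ?_
  fin_cases j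
  · exact h0.trans (act_blk_line _ _ (dia_bas0 a ha) _ _ (by simp) (by simp)).symm
  · exact h1.trans (act_blk_line _ _ (dia_bas1 a ha) _ _ (by simp) (by simp)).symm
  · exact h2.trans (blk_off _ _ _ _ (Or.inr (by simp))).symm

/-- A diagonal element inverted by some element is a standard torus element up to conjugation. -/
theorem exists_torus_form (hF : Fintype.card F = q ^ 2) (M W : Cfsg.SU 3 F q) (hM : M ^ (q + 1) = 1)
    (hW : W * M = M⁻¹ * W) (hM2 : M * M ≠ 1) :
    ∃ (g : Cfsg.SU 3 F q) (a : F) (ha : a * a ^ q = 1), a * a ≠ 1 ∧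
      g⁻¹ * M * g = blk hF 0 (by omega) (dia hF a ha) := by
  have hq := q_ne_zero hF
  have hb : Cfsg.hermForm 3 F q (bas 0) (bas 0) = (1 : F) := by rw [h_bas_right _ _ hq, bas, Pi.single_eq_same]
  obtain ⟨v, a, ha, hv, hMv, -⟩ := exists_unit_eigen hF M hM (Fin.elim0 : Fin 0 → Fin 3 → F) Fin.elim0
    (fun j => j.elim0) (fun j => j.elim0) (bas 0) (by rw [hb]; exact one_ne_zero) fun j => j.elim0
  obtain ⟨x, hx, hxv⟩ := exists_unit_one hF (N := 3) (by omega) (a := v) (by rw [hv]; exact one_ne_zero)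
  obtain ⟨w, b, hb', hw, hMw, hwv⟩ := exists_unit_eigen hF M hM (fun _ : Fin 1 => v) (fun _ => a)
    (fun _ => hMv) (fun _ => hv) x (by rw [hx]; exact one_ne_zero) fun _ => hxv
  obtain ⟨g, hg0, hg1⟩ := exists_frame hF hv hw (h_symm hF (hwv 0))
  set M' := g⁻¹ * M * g with hM'
  have e0 : act M' (bas 0) = a • bas 0 := by rw [hM', act_mul, act_mul, hg0, hMv, act_smul, ← hg0, act_inv]
  have e1 : act M' (bas 1) = b • bas 1 := by rw [hM', act_mul, act_mul, hg1, hMw, act_smul, ← hg1, act_inv]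
  obtain ⟨_, t, ht⟩ := exists_line_decomp hF (k := 2) (show 0 + 2 ≤ 3 by omega) rfl M' 0 (by simp) a e0
  have et : act t (bas 0) = (a * b) • bas 0 := by
    have hd : act (blk hF 0 (show 0 + 2 ≤ 3 by omega) (dia hF (a ^ q) (norm_conj hF ha))) (bas 1) = a • bas 1 := by
      rw [act_blk_line (a := 1) (b := 1) _ _ (dia_bas1 _ _) (1 : Fin 3) 1 (by simp) (by simp), pow_q_pow_q hF]
    have ht' : blk hF 1 (by omega) t = (blk hF 0 (show 0 + 2 ≤ 3 by omega) (dia hF a ha))⁻¹ * M' := by
      rw [ht, inv_mul_cancel_left]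
    have e : act (blk hF 1 (show 1 + 2 ≤ 3 by omega) t) (bas 1) = (a * b) • bas 1 := by
      rw [ht', act_mul, e1, act_smul, ← map_inv, dia_inv, hd, smul_smul, mul_comm]
    rw [blk_bas 1 _ t 0 1 rfl] at e
    have e' := congrArg (fun v => R F (sh 1 (show 1 + 2 ≤ 3 by omega)) *ᵥ v) e
    simp only [RP_vec (sh_inj 1 (show 1 + 2 ≤ 3 by omega))] at e'
    rw [e', mulVec_smul]
    congr 1
    funext i
    rw [R_mulVec]
    fin_cases i <;> simp [sh, Pi.single_apply]
  have hab : (a * b) * (a * b) ^ q = 1 := by rw [mul_pow, mul_mul_mul_comm, ha, hb', one_mul]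
  have htd : t = dia hF (a * b) hab := by
    refine ext_mat ?_
    rw [congrArg mat (su2_shape (hF := hF) t), dia, mat_mk2, mat_mk2, mat_eq_act _ 0 0, mat_eq_act _ 1 0, et]
    simp
  have e2 : act M' (bas 2) = (a * b) ^ q • bas 2 := by
    rw [ht, htd, act_mul, act_blk_line (a := 1) (b := 1) _ _ (dia_bas1 _ _) (2 : Fin 3) 2 (by simp) (by simp),
      act_smul, blk_off 0 _ _ _ (Or.inr (by simp))]
  set c := (a * b) ^ q with hc
  have hc1 : c * c ^ q = 1 := norm_conj hF hab
  have habc : a * b * c = 1 := hab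
  -- the inverting element permutes the eigenvalues
  set W' := g⁻¹ * W * g with hW'
  have hWM : W' * M' = M'⁻¹ * W' := by
    rw [hW', hM']
    simp only [_root_.mul_inv_rev, inv_inv, mul_assoc, mul_inv_cancel_left]
    rw [← mul_assoc W M g, hW, mul_assoc]
  have mem : ∀ (i : Fin 3) (e : F), e * e ^ q = 1 → act M' (bas i) = e • bas i →
      e ^ q = a ∨ e ^ q = b ∨ e ^ q = c := by
    intro i e he hei
    set y := act W' (bas i) with hy
    have hMy : act M' y = e ^ q • y := by
      have h1 := congrArg (fun z => act z (bas i)) hWM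
      simp only [act_mul, hei, act_smul, ← hy] at h1
      have h2 := congrArg (fun z => e ^ q • act M' z) h1
      simp only [act_inv', act_smul, smul_smul, mul_comm (e ^ q) e, he, one_smul] at h2
      exact h2
    by_contra hne
    push Not at hne
    have hy0 : ∀ (j : Fin 3) (d : F), d * d ^ q = 1 → act M' (bas j) = d • bas j → e ^ q ≠ d → y j = 0 := by
      intro j d hd hdj hne
      have h1 := h_act M' y (bas j)
      rw [hMy, hdj, herm_smul_left hF, herm_smul_right hF, h_bas_right _ _ hq] at h1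
      by_contra h0
      refine hne ?_
      have h2 : e ^ q * d ^ q = 1 := mul_right_cancel₀ h0 (by rw [one_mul, mul_assoc]; exact h1)
      linear_combination d * h2 - e ^ q * hd
    have hy1 : Cfsg.hermForm 3 F q y y = 1 := by
      rw [hy, h_act, h_bas_right _ _ hq, bas, Pi.single_eq_same]
    have : y = 0 := by
      funext j
      fin_cases j
      exacts [hy0 0 a ha e0 hne.1, hy0 1 b hb' e1 hne.2.1, hy0 2 c hc1 e2 hne.2.2]
    rw [this, h_zero_left hF] at hy1
    exact zero_ne_one hy1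
  have selfinv : ∀ {e : F}, e * e ^ q = 1 → e ^ q = e → e * e = 1 := fun he h => by rwa [h] at he
  have w0b0 : act (blk hF 0 (show 0 + 2 ≤ 3 by omega) (w2 hF)) (bas 0) = (-1 : F) • bas 1 := Amalgam.w0_bas0
  have w0b1 : act (blk hF 0 (show 0 + 2 ≤ 3 by omega) (w2 hF)) (bas 1) = (1 : F) • bas 0 :=
    act_blk_line _ _ w2_bas1 _ _ (by simp) (by simp)
  have w0b2 : act (blk hF 0 (show 0 + 2 ≤ 3 by omega) (w2 hF)) (bas 2) = bas 2 := Amalgam.w0_bas2
  have w1b0 : act (blk hF 1 (show 1 + 2 ≤ 3 by omega) (w2 hF)) (bas 0) = bas 0 := Amalgam.w1_bas0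
  have w1b1 : act (blk hF 1 (show 1 + 2 ≤ 3 by omega) (w2 hF)) (bas 1) = (-1 : F) • bas 2 := Amalgam.w1_bas1
  have w1b2 : act (blk hF 1 (show 1 + 2 ≤ 3 by omega) (w2 hF)) (bas 2) = (1 : F) • bas 1 :=
    act_blk_line _ _ w2_bas1 _ _ (by simp) (by simp)
  -- conjugating permutes the eigenvalues
  have shift : ∀ (σ : Cfsg.SU 3 F q) (i j : Fin 3) (e d : F), d ≠ 0 → act σ (bas i) = d • bas j →
      act M' (bas j) = e • bas j → act (σ⁻¹ * M' * σ) (bas i) = e • bas i := by
    intro σ i j e d hd h1 h2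
    have h3 : act σ⁻¹ (bas j) = d⁻¹ • bas i := by
      have := congrArg (fun z => d⁻¹ • act σ⁻¹ z) h1
      simp only [act_inv, act_smul, smul_smul, inv_mul_cancel₀ hd, one_smul] at this
      exact this.symm
    rw [act_mul, act_mul, h1, act_smul, h2, act_smul, act_smul, h3, smul_smul, smul_smul]
    congr 1
    field_simp
  have finish : ∀ (σ : Cfsg.SU 3 F q) (e e' e'' : F) (_ : e * e ^ q = 1), e * e ≠ 1 →
      act (σ⁻¹ * M' * σ) (bas 0) = e • bas 0 → act (σ⁻¹ * M' * σ) (bas 1) = e' • bas 1 →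
      act (σ⁻¹ * M' * σ) (bas 2) = e'' • bas 2 → e' = e ^ q → e'' = 1 →
      ∃ (g : Cfsg.SU 3 F q) (a : F) (ha : a * a ^ q = 1), a * a ≠ 1 ∧
        g⁻¹ * M * g = blk hF 0 (by omega) (dia hF a ha) := by
    intro σ e e' e'' he hne h0 h1 h2 r1 r2
    subst r1 r2
    refine ⟨g * σ, e, he, hne, ?_⟩
    rw [show (g * σ)⁻¹ * M * (g * σ) = σ⁻¹ * M' * σ by rw [hM']; group]
    exact eq_blk_dia he h0 h1 (by rw [h2, one_smul])
  have hm : (-1 : F) ≠ 0 := neg_ne_zero.mpr one_ne_zero
  have h1' : (1 : F) ≠ 0 := one_ne_zero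
  by_cases ha2 : a * a = 1
  · by_cases hb2 : b * b = 1
    · exfalso
      have hc2 : c * c = 1 := by linear_combination (1 + a * b * c) * habc - c * c * b * b * ha2 - c * c * hb2
      refine hM2 ?_
      have hMM : M' * M' = 1 := ext_bas fun j => by
        rw [act_one, act_mul]
        fin_cases j
        · show act M' (act M' (bas 0)) = bas 0
          rw [e0, act_smul, e0, smul_smul, ha2, one_smul]
        · show act M' (act M' (bas 1)) = bas 1
          rw [e1, act_smul, e1, smul_smul, hb2, one_smul]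
        · show act M' (act M' (bas 2)) = bas 2
          rw [e2, act_smul, e2, smul_smul, hc2, one_smul]
      rw [hM', show g⁻¹ * M * g * (g⁻¹ * M * g) = g⁻¹ * (M * M) * g by group] at hMM
      rw [show M * M = g * (g⁻¹ * (M * M) * g) * g⁻¹ by group, hMM, mul_one, mul_inv_cancel]
    · have haq : a ^ q = a := by linear_combination a * ha - a ^ q * ha2
      rcases mem 1 b hb' e1 with h | h | h
      · have hba : b = a := by rw [← haq, ← h, pow_q_pow_q hF]
        exact absurd (hba ▸ ha2) hb2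
      · exact absurd (selfinv hb' h) hb2
      · have a1 : a = 1 := by linear_combination habc + a * b * h - a * hb'
        exact finish (blk hF 0 (by omega) (w2 hF) * blk hF 1 (by omega) (w2 hF)) b c a hb' hb2
          (shift _ 0 1 b (-1) hm (by rw [act_mul, w1b0, w0b0]) e1)
          (shift _ 1 2 c (-1) hm (by rw [act_mul, w1b1, act_smul, w0b2]) e2)
          (shift _ 2 0 a 1 h1' (by rw [act_mul, w1b2, act_smul, w0b1, smul_smul, one_mul]) e0) h.symm a1
  · rcases mem 0 a ha e0 with h | h | h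
    · exact absurd (selfinv ha h) ha2
    · refine finish 1 a b c ha ha2 ?_ ?_ ?_ h.symm ?_
      · rw [inv_one, one_mul, mul_one, e0]
      · rw [inv_one, one_mul, mul_one, e1]
      · rw [inv_one, one_mul, mul_one, e2]
      · linear_combination habc + a * c * h - c * ha
    · exact finish (blk hF 1 (by omega) (w2 hF)) a c b ha ha2
        (shift _ 0 0 a 1 h1' (by rw [w1b0, one_smul]) e0) (shift _ 1 2 c (-1) hm w1b1 e2)
        (shift _ 2 1 b 1 h1' w1b2 e1) h.symm (by linear_combination habc + a * b * h - b * ha)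

end Three

end Cfsg.Agent.Lib.Phan
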